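import Cfsg.Agent.Lib.ThreeTransp.TypeTwentyFour.FourCentre.Points

/-!
# Two of the words move the points as tabulated
-/

set_option autoImplicit false
set_option maxRecDepth 100000
set_option Elab.async false

namespace CfsgLib.ThreeTransp.TypeTwentyFour.FourCentre

theorem act2 : actOK (memWord (gWord.getD 2 [])) tab2 = true := by decide +kernel

theorem act3 : actOK (memWord (gWord.getD 3 [])) tab3 = true := by decide +kernel

end CfsgLib.ThreeTransp.TypeTwentyFour.FourCentre
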