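import Cfsg.Agent.Lib.ThreeTransp.TypeTwentyFour.FourCentre.Tables

/-!
# The isometries acting on the 126 lines of norm one
-/

set_option autoImplicit false
set_option maxRecDepth 100000

namespace CfsgLib.ThreeTransp.TypeTwentyFour.FourCentre

open CfsgLib.Orth QuadraticMap

theorem eqW_spec {u v : W6} (h : eqW u v = true) : u = v := funext (of_decide_eq_true h)

theorem eqW_of {u v : W6} (h : u = v) : eqW u v = true := decide_eq_true fun l => congrFun h l

theorem lab_q6 {X : ℕ} (hX : X < 126) : q6 (lab X) = 1 :=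
  of_decide_eq_true (List.all_eq_true.1 lab_norm X (List.mem_range.2 hX))

/-- Two vectors give the same line. -/
def Line (u v : W6) : Prop := u = v ∨ u = -v

theorem Line.symm {u v : W6} (h : Line u v) : Line v u := by
  rcases h with rfl | rfl
  exacts [Or.inl rfl, Or.inr (neg_neg _).symm]

theorem Line.trans {u v w : W6} (h : Line u v) (h' : Line v w) : Line u w := by
  rcases h with rfl | rfl
  · exact h'
  · rcases h' with rfl | rfl
    exacts [Or.inr rfl, Or.inl (neg_neg _)]

theorem Line.map (g : orthGroup Q6) {u v : W6} (h : Line u v) : Line (g.1 u) (g.1 v) := by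
  rcases h with rfl | rfl
  exacts [Or.inl rfl, Or.inr (map_neg g.1 v)]

theorem line_inj {X Y : ℕ} (hX : X < 126) (hY : Y < 126) (h : Line (lab X) (lab Y)) : X = Y := by
  have key : ∀ a b, a < 126 → b < a → ¬ Line (lab a) (lab b) := by
    intro a b ha hb hl
    have h1 := List.all_eq_true.1 (List.all_eq_true.1 lab_inj a (List.mem_range.2 ha)) b
      (List.mem_range.2 hb)
    rcases hl with e | e
    · rw [eqW_of e] at h1; simp at h1
    · rw [eqW_of (v := fun l => -lab b l) e, Bool.or_true] at h1; simp at h1
  rcases lt_trichotomy X Y with h' | h' | h'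
  exacts [absurd h.symm (key Y X hY h'), h', absurd h (key X Y hX h')]

theorem exists_line {v : W6} (hv : q6 v = 1) : ∃ X : Fin 126, Line (lab X) v := by
  obtain ⟨X, hX, h⟩ := List.any_eq_true.1 (lab_cover v hv)
  refine ⟨⟨X, List.mem_range.1 hX⟩, ?_⟩
  rcases Bool.or_eq_true_iff.1 h with e | e
  exacts [Or.inl (eqW_spec e), Or.inr (eqW_spec e)]

theorem exists_image (g : orthGroup Q6) (X : Fin 126) :
    ∃ Y : Fin 126, Line (lab Y) (g.1 (lab X)) :=
  exists_line (by rw [← Q6_apply, apply_quad, Q6_apply, lab_q6 X.2])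

/-- The image of a line. -/
noncomputable def lineFun (g : orthGroup Q6) (X : Fin 126) : Fin 126 := (exists_image g X).choose

theorem lineFun_spec (g : orthGroup Q6) (X : Fin 126) :
    Line (lab (lineFun g X)) (g.1 (lab X)) := (exists_image g X).choose_spec

theorem lineFun_eq {g : orthGroup Q6} {X Y : Fin 126} (h : Line (lab Y) (g.1 (lab X))) :
    lineFun g X = Y :=
  Fin.ext (line_inj (lineFun g X).2 Y.2 ((lineFun_spec g X).trans h.symm))

theorem lineFun_one (X : Fin 126) : lineFun 1 X = X := lineFun_eq (Or.inl rfl)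

theorem lineFun_mul (g h : orthGroup Q6) (X : Fin 126) :
    lineFun (g * h) X = lineFun g (lineFun h X) :=
  lineFun_eq (((lineFun_spec g _).trans ((lineFun_spec h X).map g)))

/-- The action on the lines. -/
noncomputable def lineHom : orthGroup Q6 →* Equiv.Perm (Fin 126) where
  toFun g :=
    { toFun := lineFun g
      invFun := lineFun g⁻¹
      left_inv := fun X => by rw [← lineFun_mul, inv_mul_cancel, lineFun_one]
      right_inv := fun X => by rw [← lineFun_mul, mul_inv_cancel, lineFun_one] }
  map_one' := Equiv.ext lineFun_one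
  map_mul' g h := Equiv.ext (lineFun_mul g h)

theorem lineHom_apply (g : orthGroup Q6) (X : Fin 126) : lineHom g X = lineFun g X := rfl

theorem lineHom_ker (g : orthGroup Q6) : lineHom g = 1 ↔ g = 1 ∨ g = negO := by
  constructor
  · intro h
    refine sign_of_lines g fun v hv => ?_
    obtain ⟨X, hX⟩ := exists_line hv
    have e : lineFun g X = X := Equiv.ext_iff.1 h X
    have h1 : Line (lab X) (g.1 (lab X)) := by
      have h0 := lineFun_spec g X
      rwa [e] at h0
    rcases (hX.map g).symm.trans (h1.symm.trans hX) with r | r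
    exacts [Or.inl r, Or.inr r]
  · rintro (rfl | rfl)
    · exact map_one _
    · exact Equiv.ext fun X => lineFun_eq (Or.inr (by rw [negO_apply, neg_neg]; rfl))

/-- A checked table gives the action of its reflection. -/
theorem lineHom_refl {T : ℕ} {v : W6} (h : tabOK T v = true) (X : Fin 126) :
    (lineHom (refl Q6 v) X : ℕ) = lk9 T (4 * X) / 4 := by
  rw [tabOK, Bool.and_eq_true] at h
  have h2 := List.all_eq_true.1 h.2 X (List.mem_range.2 X.2)
  have h1 := List.all_eq_true.1 h.1 (4 * X) (List.mem_range.2 (by omega))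
  simp only [Bool.and_eq_true, decide_eq_true_eq] at h1
  rw [lineHom_apply, lineFun_eq (Y := ⟨lk9 T (4 * X) / 4, by omega⟩)]
  rw [refl_eq]
  rcases Bool.or_eq_true_iff.1 h2 with e | e
  exacts [Or.inl (eqW_spec e), Or.inr (eqW_spec e)]

theorem refl_line {u v : W6} (h : Line u v) : refl Q6 u = refl Q6 v := by
  rcases h with rfl | rfl
  · rfl
  · rw [← neg_one_smul (ZMod 3) v, refl_smul Q6 (by decide)]

/-- The reflection of an image. -/
theorem refl_lineFun (g : orthGroup Q6) (X : Fin 126) :
    refl Q6 (lab (lineFun g X)) = g * refl Q6 (lab X) * g⁻¹ := by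
  rw [conj_refl, refl_line (lineFun_spec g X)]

end CfsgLib.ThreeTransp.TypeTwentyFour.FourCentre
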