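import Cfsg.Agent.Lib.ThreeTransp.TypeTwentyFour.FourProd.Apply

/-!
# An upper bound for the centralizer of a product of four

The ordered quadruples of pairwise commuting members map to the class of the product, and a product
has at most 3024 of them.
-/

universe u

set_option autoImplicit false
set_option linter.unusedSectionVars false

namespace CfsgLib.ThreeTransp.TypeTwentyFour.FourCentre

open CfsgLib.Sporadic FischerTransitivity Relation Indep FourProd

variable {G : Type u} [Group G] [Finite G] {D : Set G} (E : Env D)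
include E

theorem isProd_of_quad {e a b c : G} (Q : Quad D e a b c) : IsProd D 4 (e * a * b * c) := by
  refine ⟨[e, a, b, c], ?_, rfl, ?_, ?_, by simp [mul_assoc]⟩
  · simp [Q.ha.2.1.symm, Q.hb.2.1.symm, Q.hc.2.1.symm, Q.hba.2.1.symm, Q.hca.2.1.symm,
      Q.hcb.2.1.symm]
  · simp [Q.he, Q.ha.1, Q.hb.1, Q.hc.1]
  · simp [Commute.refl, Q.ha.2.2, Q.hb.2.2, Q.hc.2.2, Q.ha.2.2.symm, Q.hb.2.2.symm, Q.hc.2.2.symm,
      Q.hba.2.2, Q.hca.2.2, Q.hcb.2.2, Q.hba.2.2.symm, Q.hca.2.2.symm, Q.hcb.2.2.symm]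

theorem card_sigma_const {α : Type*} {β : α → Type*} (s : Finset α) (t : ∀ a, Finset (β a)) (n : ℕ)
    (h : ∀ a ∈ s, (t a).card = n) : (s.sigma t).card = s.card * n := by
  rw [Finset.card_sigma, Finset.sum_congr rfl h, Finset.sum_const, smul_eq_mul]

/-- The other three factors at a given factor are determined as a set. -/
theorem same_three {e a b c a' b' c' : G} (Q : Quad D e a b c) (Q' : Quad D e a' b' c')
    (h : e * a * b * c = e * a' * b' * c') : [a, b, c].Perm [a', b', c'] := by
  have hp : [a, b, c].prod = [a', b', c'].prod := by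
    simp only [mul_assoc, mul_right_inj] at h
    simpa [mul_assoc] using h
  rcases same_or_disjoint E.ctx.hG E.ctx.ind (m := 3) le_rfl (by norm_num)
      ⟨Q.nodup_list, rfl, Q.mem_list, Q.comm_list⟩ ⟨Q'.nodup_list, rfl, Q'.mem_list, Q'.comm_list⟩ hp
    with hs | ⟨hlt, -⟩
  · exact (List.perm_ext_iff_of_nodup Q.nodup_list Q'.nodup_list).2 hs
  · omega

theorem card_centralizer_le {z : G} (hP : IsProd D 4 z) :
    Nat.card (Subgroup.centralizer ({z} : Set G)) ≤ 321052999680 := by
  classical
  haveI : Fintype G := Fintype.ofFinite G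
  have S := E.ctx.data.toSetting
  let U : Finset (Σ _ : G, Σ _ : G, Σ _ : G, G) :=
    D.toFinset.sigma fun e => (Nb D e).toFinset.sigma fun a =>
      (Nb D e ∩ Nb D a).toFinset.sigma fun b => (Nb D e ∩ (Nb D a ∩ Nb D b)).toFinset
  have hU : U.card = 306936 * (31671 * (3510 * 693)) := by
    have h0 : D.toFinset.card = 306936 := by
      rw [← Set.ncard_eq_toFinset_card', E.ctx.data.card_set]
    rw [← h0]
    refine card_sigma_const E _ _ _ fun e he => ?_
    rw [Set.mem_toFinset] at he
    rw [show (31671 : ℕ) = (Nb D e).toFinset.card by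
      rw [← Set.ncard_eq_toFinset_card', card_nb S he]]
    refine card_sigma_const E _ _ _ fun a ha => ?_
    rw [Set.mem_toFinset] at ha
    rw [show (3510 : ℕ) = (Nb D e ∩ Nb D a).toFinset.card by
      rw [← Set.ncard_eq_toFinset_card', card_common S he ha]]
    refine card_sigma_const E _ _ _ fun b hb => ?_
    rw [Set.mem_toFinset] at hb
    rw [← Set.ncard_eq_toFinset_card']
    exact E.ctx.card_lam he ha hb.1 hb.2
  have hquad : ∀ p ∈ U, Quad D p.1 p.2.1 p.2.2.1 p.2.2.2 := by
    intro p hp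
    simp only [U, Finset.mem_sigma, Set.mem_toFinset] at hp
    obtain ⟨h1, h2, h3, h4⟩ := hp
    exact ⟨h1, h2, h3.1, h4.1, h3.2, h4.2.1, h4.2.2⟩
  let f : (Σ _ : G, Σ _ : G, Σ _ : G, G) → G := fun p => p.1 * p.2.1 * p.2.2.1 * p.2.2.2
  let K : Set G := {x | ∃ g : G, g * z * g⁻¹ = x}
  have hfib : ∀ x ∈ U.image f, (U.filter fun p => f p = x).card ≤ 3024 := by
    intro x hx
    obtain ⟨p₀, hp₀, rfl⟩ := Finset.mem_image.1 hx
    have hP₀ : IsProd D 4 (f p₀) := isProd_of_quad E (hquad p₀ hp₀)
    set F := U.filter fun p => f p = f p₀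
    have hmaps : F.image (fun p => p.1) ⊆ {g | g ∈ D ∧ Commute g (f p₀)}.toFinset := by
      intro g hg
      obtain ⟨p, hp, rfl⟩ := Finset.mem_image.1 hg
      obtain ⟨hpU, hpe⟩ := Finset.mem_filter.1 hp
      have Q := hquad p hpU
      rw [Set.mem_toFinset]
      refine ⟨Q.he, hpe ▸ ?_⟩
      exact (((Commute.refl _).mul_right Q.ha.2.2).mul_right Q.hb.2.2).mul_right Q.hc.2.2
    have h504 := Finset.card_le_card hmaps
    rw [← Set.ncard_eq_toFinset_card', card_fixed_prod E hP₀] at h504
    refine le_trans (Finset.card_le_mul_card_image F 6 ?_) (by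
      calc 6 * (F.image fun p => p.1).card ≤ 6 * 504 := Nat.mul_le_mul_left 6 h504
        _ = 3024 := rfl)
    intro e he
    obtain ⟨q, hq, rfl⟩ := Finset.mem_image.1 he
    obtain ⟨hqU, hqe⟩ := Finset.mem_filter.1 hq
    have hperm : ∀ p ∈ F.filter (fun p => p.1 = q.1),
        [p.2.1, p.2.2.1, p.2.2.2] ∈ [q.2.1, q.2.2.1, q.2.2.2].permutations.toFinset := by
      intro p hp
      obtain ⟨hp1, hpq⟩ := Finset.mem_filter.1 hp
      obtain ⟨hpU, hpe⟩ := Finset.mem_filter.1 hp1
      rw [List.mem_toFinset, List.mem_permutations]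
      have Q := hquad p hpU
      rw [hpq] at Q
      refine same_three E Q (hquad q hqU) ?_
      have h := hpe.trans hqe.symm
      simp only [f] at h
      rw [hpq] at h
      exact h
    refine le_trans (Finset.card_le_card_of_injOn (fun p => [p.2.1, p.2.2.1, p.2.2.2]) hperm ?_) ?_
    · intro p hp p' hp' e
      obtain ⟨p1, p2, p3, p4⟩ := p
      obtain ⟨r1, r2, r3, r4⟩ := p'
      obtain ⟨-, h1⟩ := Finset.mem_filter.1 hp
      obtain ⟨-, h1'⟩ := Finset.mem_filter.1 hp'
      simp only [List.cons.injEq, and_true] at e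
      obtain ⟨rfl, rfl, rfl⟩ := e
      change p1 = q.1 at h1
      change r1 = q.1 at h1'
      subst h1 h1'
      rfl
    · refine le_trans (List.toFinset_card_le _) ?_
      rw [List.length_permutations]
      rfl
  have hsub : U.image f ⊆ K.toFinset := by
    intro x hx
    obtain ⟨p, hp, rfl⟩ := Finset.mem_image.1 hx
    rw [Set.mem_toFinset]
    exact isConj_iff.1 (E.classes 4 (by norm_num) le_rfl _ _ hP (isProd_of_quad E (hquad p hp)))
  have h1 := Finset.card_le_mul_card_image U 3024 hfib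
  have h2 : (U.image f).card ≤ K.ncard := by
    rw [Set.ncard_eq_toFinset_card']
    exact Finset.card_le_card hsub
  have h3 := card_orbit_mul (⊤ : Subgroup G) (Subgroup.centralizer ({z} : Set G)) le_top
    (fun g => g * z * g⁻¹) K (fun g _ => ⟨g, rfl⟩) (fun x ⟨g, hg⟩ => ⟨g, Subgroup.mem_top g, hg⟩)
    (fun g _ k _ => by rw [conj_eq_iff, Subgroup.mem_centralizer_singleton_iff])
  rw [Subgroup.card_top, E.ctx.data.card_group] at h3
  rw [hU] at h1
  nlinarith [h1, h2, h3]

end CfsgLib.ThreeTransp.TypeTwentyFour.FourCentre
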