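import Cfsg.Agent.Lib.ThreeTransp.TypeTwentyFour.FourCentre.Action

/-!
# What the model supplies, and the actions on the 504 members and their 126 fours
-/

set_option autoImplicit false
set_option linter.unusedSectionVars false

namespace CfsgLib.ThreeTransp.TypeTwentyFour.FourCentre

open CfsgLib.Orth

variable {G : Type*} [Group G]

/-- The members, seven of them generating and the exchange, with their permutations. -/
structure Cert (D : Set G) (z : G) (mem : ℕ → G) (o : G) : Prop where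
  mem_zero : mem 0 ∈ D
  inj : ∀ i < 504, ∀ j < 504, mem i = mem j → i = j
  gconj : ∀ s < 7, ∀ i < 504,
    mem (gIdx.getD s 0) * mem i * (mem (gIdx.getD s 0))⁻¹ = mem (tb s i)
  gcomm : ∀ s < 7, Commute (mem (gIdx.getD s 0)) z
  oconj : ∀ i < 504, o * mem i * o⁻¹ = mem (lk9 oTab i)
  ocomm : Commute o z
  base_comm : ∀ i < 4, ∀ j < 4, Commute (mem i) (mem j)
  base_prod : mem 0 * mem 1 * mem 2 * mem 3 = z

theorem lk_facts {T : ℕ} {v : W6} (h : tabOK T v = true) {i : ℕ} (hi : i < 504) :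
    lk9 T i < 504 ∧ lk9 T (lk9 T i) = i ∧ lk9 T i / 4 = lk9 T (4 * (i / 4)) / 4 := by
  rw [tabOK, Bool.and_eq_true] at h
  simpa [and_assoc] using List.all_eq_true.1 h.1 i (List.mem_range.2 hi)

theorem gen_tab {s : ℕ} (hs : s < 7) :
    gIdx.getD s 0 < 504 ∧ tabOK (gTabs.getD s 0) (lab (gIdx.getD s 0 / 4)) = true := by
  have h := List.all_eq_true.1 tabs_ok s (List.mem_range.2 hs)
  rw [Bool.and_eq_true, decide_eq_true_eq] at h
  refine ⟨?_, h.2⟩
  have hl : gIdx.length = 7 := rfl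
  rw [List.getD_eq_getElem _ _ (by omega)] at h ⊢
  exact h.1

theorem tb_eq (s i : ℕ) : tb s i = lk9 (gTabs.getD s 0) i := rfl

attribute [local irreducible] tb lk9 lab

theorem tb_lt {s i : ℕ} (hs : s < 7) (hi : i < 504) : tb s i < 504 :=
  tb_eq s i ▸ (lk_facts (gen_tab hs).2 hi).1

/-- A permutation from a checked table. -/
def tabPerm {T : ℕ} {v : W6} (h : tabOK T v = true) : Equiv.Perm (Fin 504) :=
  Function.Involutive.toPerm (fun i => ⟨lk9 T i, (lk_facts h i.2).1⟩)
    fun i => Fin.ext (lk_facts h i.2).2.1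

/-- A permutation respecting the fours. -/
def Blk (σ : Equiv.Perm (Fin 504)) : Prop :=
  ∀ i j : Fin 504, (i : ℕ) / 4 = (j : ℕ) / 4 → (σ i : ℕ) / 4 = (σ j : ℕ) / 4

theorem blk_tabPerm {T : ℕ} {v : W6} (h : tabOK T v = true) : Blk (tabPerm h) := fun i j e => by
  show lk9 T i / 4 = lk9 T j / 4
  rw [(lk_facts h i.2).2.2, (lk_facts h j.2).2.2, e]

/-- The first member of a four. -/
def headI (X : Fin 126) : Fin 504 := ⟨4 * X, by omega⟩

theorem headI_div (X : Fin 126) : (headI X : ℕ) / 4 = X := by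
  show 4 * (X : ℕ) / 4 = X
  omega

/-- The four of a member. -/
def blockI (i : Fin 504) : Fin 126 := ⟨i / 4, by omega⟩

namespace Cert

variable {D : Set G} {z : G} {mem : ℕ → G} {o : G}

/-- One of the seven. -/
def x (_C : Cert D z mem o) (s : ℕ) : G := mem (gIdx.getD s 0)

/-- The group of the seven and the exchange. -/
def H (C : Cert D z mem o) : Subgroup G :=
  Subgroup.closure ({g | ∃ s < 7, C.x s = g} ∪ {o})

variable (C : Cert D z mem o)
include C

theorem x_mem {s : ℕ} (hs : s < 7) : C.x s ∈ C.H :=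
  Subgroup.subset_closure (Or.inl ⟨s, hs, rfl⟩)

theorem o_mem : o ∈ C.H := Subgroup.subset_closure (Or.inr rfl)

theorem commute_z {g : G} (hg : g ∈ C.H) : Commute g z := by
  induction hg using Subgroup.closure_induction with
  | mem g hg =>
    rcases hg with ⟨s, hs, rfl⟩ | rfl
    exacts [C.gcomm s hs, C.ocomm]
  | one => exact Commute.one_left _
  | mul _ _ _ _ a b => exact a.mul_left b
  | inv _ _ a => exact a.inv_left

theorem exists_perm {g : G} (hg : g ∈ C.H) :
    ∃ σ : Equiv.Perm (Fin 504), (∀ i : Fin 504, g * mem i * g⁻¹ = mem (σ i)) ∧ Blk σ := by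
  have inv : ∀ {g : G} {σ : Equiv.Perm (Fin 504)}, (∀ i : Fin 504, g * mem i * g⁻¹ = mem (σ i)) →
      (∀ i : Fin 504, g⁻¹ * mem i * g⁻¹⁻¹ = mem (σ.symm i)) := by
    intro g σ h i
    have := h (σ.symm i)
    rw [Equiv.apply_symm_apply] at this
    rw [← this]
    group
  have gen : ∀ g ∈ ({g | ∃ s < 7, C.x s = g} ∪ {o} : Set G), ∃ σ : Equiv.Perm (Fin 504),
      (∀ i : Fin 504, g * mem i * g⁻¹ = mem (σ i)) ∧ Blk σ ∧ Blk σ.symm := by
    rintro g (⟨s, hs, rfl⟩ | rfl)
    · exact ⟨tabPerm (gen_tab hs).2, fun i => (C.gconj s hs i i.2).trans (congrArg mem (tb_eq s i)),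
        blk_tabPerm (gen_tab hs).2, blk_tabPerm (gen_tab hs).2⟩
    · exact ⟨tabPerm oTab_ok, fun i => C.oconj i i.2, blk_tabPerm oTab_ok, blk_tabPerm oTab_ok⟩
  induction hg using Subgroup.closure_induction'' with
  | mem g hg => obtain ⟨σ, h1, h2, -⟩ := gen g hg; exact ⟨σ, h1, h2⟩
  | inv_mem g hg => obtain ⟨σ, h1, -, h3⟩ := gen g hg; exact ⟨σ.symm, inv h1, h3⟩
  | one => exact ⟨1, fun i => by simp, fun i j e => e⟩
  | mul a b _ _ ha hb =>
    obtain ⟨σ, h1, h2⟩ := ha
    obtain ⟨τ, k1, k2⟩ := hb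
    refine ⟨σ * τ, fun i => ?_, fun i j e => h2 _ _ (k2 i j e)⟩
    rw [Equiv.Perm.mul_apply, ← h1, ← k1]
    group

/-- The permutation of an element. -/
noncomputable def perm (g : C.H) : Equiv.Perm (Fin 504) := (C.exists_perm g.2).choose

theorem perm_conj (g : C.H) (i : Fin 504) : (g : G) * mem i * (g : G)⁻¹ = mem (C.perm g i) :=
  (C.exists_perm g.2).choose_spec.1 i

theorem perm_blk (g : C.H) : Blk (C.perm g) := (C.exists_perm g.2).choose_spec.2

theorem perm_eq {g : C.H} {i j : Fin 504} (h : (g : G) * mem i * (g : G)⁻¹ = mem j) :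
    C.perm g i = j :=
  Fin.ext (C.inj _ (C.perm g i).2 _ j.2 ((C.perm_conj g i).symm.trans h))

theorem perm_one (i : Fin 504) : C.perm 1 i = i := C.perm_eq (by simp)

theorem perm_mul (g h : C.H) (i : Fin 504) : C.perm (g * h) i = C.perm g (C.perm h i) :=
  C.perm_eq (by rw [← C.perm_conj, ← C.perm_conj, Subgroup.coe_mul]; group)

/-- The action on the members. -/
noncomputable def rho : C.H →* Equiv.Perm (Fin 504) where
  toFun := C.perm
  map_one' := Equiv.ext C.perm_one
  map_mul' g h := Equiv.ext (C.perm_mul g h)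

/-- The induced map of fours. -/
noncomputable def blockFun (g : C.H) (X : Fin 126) : Fin 126 := blockI (C.perm g (headI X))

theorem blockFun_block (g : C.H) (i : Fin 504) : C.blockFun g (blockI i) = blockI (C.perm g i) :=
  Fin.ext (C.perm_blk g (headI (blockI i)) i (headI_div _))

theorem blockFun_mul (g h : C.H) (X : Fin 126) :
    C.blockFun (g * h) X = C.blockFun g (C.blockFun h X) := by
  show blockI (C.perm (g * h) (headI X)) = C.blockFun g (blockI (C.perm h (headI X)))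
  rw [C.blockFun_block, C.perm_mul]

theorem blockFun_one (X : Fin 126) : C.blockFun 1 X = X :=
  Fin.ext (by rw [blockFun, C.perm_one]; exact headI_div X)

/-- The action on the fours. -/
noncomputable def four : C.H →* Equiv.Perm (Fin 126) where
  toFun g :=
    { toFun := C.blockFun g
      invFun := C.blockFun g⁻¹
      left_inv := fun X => by rw [← C.blockFun_mul, inv_mul_cancel, C.blockFun_one]
      right_inv := fun X => by rw [← C.blockFun_mul, mul_inv_cancel, C.blockFun_one] }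
  map_one' := Equiv.ext C.blockFun_one
  map_mul' g h := Equiv.ext (C.blockFun_mul g h)

/-- A checked table gives the permutation and the four action. -/
theorem perm_of_table {g : C.H} {T : ℕ} {v : W6} (hT : tabOK T v = true)
    (h : ∀ i < 504, (g : G) * mem i * (g : G)⁻¹ = mem (lk9 T i)) :
    (∀ i : Fin 504, (C.perm g i : ℕ) = lk9 T i) ∧ C.four g = lineHom (refl Q6 v) := by
  have h1 : ∀ i : Fin 504, (C.perm g i : ℕ) = lk9 T i := fun i => by
    rw [C.perm_eq (j := ⟨lk9 T i, (lk_facts hT i.2).1⟩) (h i i.2)]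
  refine ⟨h1, Equiv.ext fun X => Fin.ext ?_⟩
  show (C.perm g (headI X) : ℕ) / 4 = _
  rw [h1, lineHom_refl hT]
  rfl

theorem four_x {s : ℕ} (hs : s < 7) :
    C.four ⟨C.x s, C.x_mem hs⟩ = lineHom (refl Q6 (lab (gIdx.getD s 0 / 4))) :=
  (C.perm_of_table (gen_tab hs).2 fun i hi => (C.gconj s hs i hi).trans (congrArg mem (tb_eq s i))).2

theorem four_o : C.four ⟨o, C.o_mem⟩ = lineHom (refl Q6 oV) :=
  (C.perm_of_table oTab_ok C.oconj).2

/-- A member lies in the group and acts on the fours as its reflection. -/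
def Good (C : Cert D z mem o) (i : ℕ) : Prop :=
  i < 504 ∧ mem i ∈ D ∧
    ∃ h : mem i ∈ C.H, C.four ⟨mem i, h⟩ = lineHom (refl Q6 (lab (i / 4)))

theorem good_step (hcl : ∀ g : G, ∀ a ∈ D, g * a * g⁻¹ ∈ D) {i j s : ℕ} (hs : s < 7)
    (hj : C.Good j) (e : tb s j = i) : C.Good i := by
  obtain ⟨hj1, hjD, hjH, hj4⟩ := hj
  have hi : i < 504 := by rw [← e]; exact tb_lt hs hj1
  have hm : mem i = C.x s * mem j * (C.x s)⁻¹ := by rw [← e]; exact (C.gconj s hs j hj1).symm
  have hH : mem i ∈ C.H := by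
    rw [hm]; exact mul_mem (mul_mem (C.x_mem hs) hjH) (inv_mem (C.x_mem hs))
  refine ⟨hi, by rw [hm]; exact hcl _ _ hjD, hH, ?_⟩
  have : (⟨mem i, hH⟩ : C.H) = ⟨C.x s, C.x_mem hs⟩ * ⟨mem j, hjH⟩ * ⟨C.x s, C.x_mem hs⟩⁻¹ :=
    Subtype.ext hm
  rw [this, map_mul, map_mul, map_inv, hj4, C.four_x hs, ← map_inv, ← map_mul, ← map_mul]
  have h2 := refl_lineFun (refl Q6 (lab (gIdx.getD s 0 / 4))) ⟨j / 4, by omega⟩
  have e2 : (lineFun (refl Q6 (lab (gIdx.getD s 0 / 4))) ⟨j / 4, by omega⟩ : ℕ) = i / 4 := by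
    rw [← lineHom_apply, lineHom_refl (gen_tab hs).2, ← e, tb_eq]
    exact ((lk_facts (gen_tab hs).2 hj1).2.2).symm
  rw [e2] at h2
  exact congrArg lineHom h2.symm

end Cert

end CfsgLib.ThreeTransp.TypeTwentyFour.FourCentre
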