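import Cfsg.Agent.Lib.ThreeTransp.TypeTwentyFour.FourCentre.Cert
import Cfsg.Prelude.Def_FischerSpaces

/-!
# The members, words in the seven, and the fours
-/

set_option autoImplicit false
set_option linter.unusedSectionVars false

namespace CfsgLib.ThreeTransp.TypeTwentyFour.FourCentre

open CfsgLib.Orth

attribute [local irreducible] tb lk9 lab

/-- A member of a four. -/
def ptI (X : Fin 126) (m : Fin 4) : Fin 504 := ⟨4 * X + m, by omega⟩

theorem ptI_block (X : Fin 126) (m : Fin 4) : blockI (ptI X m) = X :=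
  Fin.ext (show (4 * (X : ℕ) + m) / 4 = X by omega)

/-- The position in a four. -/
def posI (i : Fin 504) : Fin 4 := ⟨i % 4, by omega⟩

theorem ptI_pos (i : Fin 504) : ptI (blockI i) (posI i) = i :=
  Fin.ext (show 4 * ((i : ℕ) / 4) + (i : ℕ) % 4 = i by omega)

theorem ptI_inj (X : Fin 126) : Function.Injective (ptI X) := fun a b h => by
  have := congrArg Fin.val h
  simp only [ptI] at this
  exact Fin.ext (by omega)

theorem runW_cons (s : ℕ) (w : List ℕ) (i : ℕ) : runW (s :: w) i = tb s (runW w i) := rfl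

theorem runW_append (a b : List ℕ) (i : ℕ) : runW (a ++ b) i = runW a (runW b i) :=
  List.foldr_append

theorem runW_lt {w : List ℕ} (hw : ∀ s ∈ w, s < 7) {i : ℕ} (hi : i < 504) : runW w i < 504 := by
  induction w with
  | nil => exact hi
  | cons s t ih =>
    exact tb_lt (hw s List.mem_cons_self) (ih fun r hr => hw r (List.mem_cons_of_mem _ hr))

/-- Products of pairwise commuting elements do not depend on the order. -/
theorem prod_perm {M : Type*} [Monoid M] {l l' : List M} (hc : l.Pairwise Commute)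
    (hp : l.Perm l') : l'.prod = l.prod := (hp.prod_eq' hc).symm

namespace Cert

variable {G : Type*} [Group G] {D : Set G} {z : G} {mem : ℕ → G} {o : G}

/-- The group is generated by members, and the members generate a four through the first one. -/
def Reached (C : Cert D z mem o) (i : ℕ) : Prop :=
  C.Good i ∧ ∃ g : C.H, (g : G) * mem 0 * (g : G)⁻¹ = mem i

variable (C : Cert D z mem o) (hG : Cfsg.IsThreeTranspositionGroup D)
include C hG

theorem reached_zero : C.Reached 0 := by
  have e : gIdx.getD 0 0 = 0 := rfl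
  have hx : C.x 0 = mem 0 := congrArg mem e
  refine ⟨⟨by norm_num, C.mem_zero, hx ▸ C.x_mem (by norm_num), ?_⟩, 1, by simp⟩
  have h := C.four_x (s := 0) (by norm_num)
  rw [e] at h
  exact (congrArg C.four (Subtype.ext hx.symm)).trans h

theorem reached_grow : ∀ (L : List (ℕ × ℕ × ℕ)) (seen : ℕ),
    (∀ i, seen.testBit i = true → C.Reached i) →
    ∀ i, (growT L seen).testBit i = true → C.Reached i := by
  intro L
  induction L with
  | nil => intro seen h i hi; exact h i hi
  | cons r t ih =>
    obtain ⟨a, j, s⟩ := r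
    intro seen h i hi
    simp only [growT] at hi
    split_ifs at hi with hc
    · simp only [Bool.and_eq_true, decide_eq_true_eq] at hc
      obtain ⟨⟨⟨hs, -⟩, hj⟩, e⟩ := hc
      refine ih _ (fun k hk => ?_) i hi
      rw [Nat.testBit_or, Bool.or_eq_true] at hk
      rcases hk with hk | hk
      · exact h k hk
      · rw [Nat.testBit_two_pow, decide_eq_true_eq] at hk
        subst hk
        obtain ⟨hgood, g, hg⟩ := h j hj
        refine ⟨C.good_step hG.2.1 hs hgood e, ⟨C.x s, C.x_mem hs⟩ * g, ?_⟩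
        rw [Subgroup.coe_mul, ← e, ← C.gconj s hs j hgood.1]
        show C.x s * g * mem 0 * (C.x s * g)⁻¹ = C.x s * mem j * (C.x s)⁻¹
        rw [← hg]
        group
    · simp at hi

theorem reached {i : ℕ} (hi : i < 504) : C.Reached i := by
  refine C.reached_grow hG treeRows 1 (fun k hk => ?_) i ?_
  · rw [Nat.testBit_one_eq_true_iff_self_eq_zero] at hk
    exact hk ▸ C.reached_zero hG
  · rw [tree_ok, Nat.testBit_two_pow_sub_one, decide_eq_true_eq]
    exact hi

theorem mem_D {i : ℕ} (hi : i < 504) : mem i ∈ D := (C.reached hG hi).1.2.1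

theorem mem_H {i : ℕ} (hi : i < 504) : mem i ∈ C.H := (C.reached hG hi).1.2.2.1

theorem mem_sq {i : ℕ} (hi : i < 504) : mem i * mem i = 1 := by
  rw [← orderOf_dvd_iff_pow_eq_one.1 (dvd_of_eq (hG.1.1 _ (C.mem_D hG hi))), pow_two]

/-- A member as an element of the group. -/
def memH (i : Fin 504) : C.H := ⟨mem i, C.mem_H hG i.2⟩

theorem four_mem (i : Fin 504) :
    C.four (C.memH hG i) = lineHom (refl Q6 (lab ((blockI i : Fin 126) : ℕ))) :=
  (C.reached hG i.2).1.2.2.2

theorem x_D {s : ℕ} (hs : s < 7) : C.x s ∈ D := C.mem_D hG (gen_tab hs).1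

theorem x_inv {s : ℕ} (hs : s < 7) : (C.x s)⁻¹ = C.x s :=
  inv_eq_of_mul_eq_one_right (C.mem_sq hG (gen_tab hs).1)

omit hG in
theorem word_mem {w : List ℕ} (hw : ∀ s ∈ w, s < 7) : (w.map C.x).prod ∈ C.H :=
  Subgroup.list_prod_mem _ fun g hg => by
    obtain ⟨s, hs, rfl⟩ := List.mem_map.1 hg
    exact C.x_mem (hw s hs)

omit hG in
/-- Conjugation by a word runs its permutations. -/
theorem conj_word {w : List ℕ} (hw : ∀ s ∈ w, s < 7) {i : ℕ} (hi : i < 504) :
    (w.map C.x).prod * mem i * ((w.map C.x).prod)⁻¹ = mem (runW w i) := by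
  induction w with
  | nil => simp [runW]
  | cons s t ih =>
    have ht : ∀ r ∈ t, r < 7 := fun r hr => hw r (List.mem_cons_of_mem _ hr)
    rw [runW_cons, ← C.gconj s (hw s List.mem_cons_self) _ (runW_lt ht hi), ← ih ht]
    simp only [List.map_cons, List.prod_cons, x]
    group

omit hG in
theorem perm_word {g : C.H} {w : List ℕ} (hw : ∀ s ∈ w, s < 7) (e : (g : G) = (w.map C.x).prod)
    (i : Fin 504) : (C.perm g i : ℕ) = runW w i := by
  rw [C.perm_eq (j := ⟨runW w i, runW_lt hw i.2⟩) (by rw [e]; exact C.conj_word hw i.2)]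

theorem word_inv {w : List ℕ} (hw : ∀ s ∈ w, s < 7) :
    ((w.map C.x).prod)⁻¹ = (w.reverse.map C.x).prod := by
  rw [List.prod_inv_reverse, List.map_reverse, List.map_map]
  congr 2
  exact List.map_congr_left fun s hs => C.x_inv hG (hw s hs)

theorem mem_half {p : List ℕ × ℕ} {a : ℕ} (h : halfOK p a = true) :
    mem a = ((halfWord p).map C.x).prod ∧ ∀ s ∈ halfWord p, s < 7 := by
  simp only [halfOK, Bool.and_eq_true, List.all_eq_true, decide_eq_true_eq] at h
  obtain ⟨⟨h1, h2⟩, h3⟩ := h
  have e504 : gIdx.getD p.2 504 = gIdx.getD p.2 0 := by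
    have hl : gIdx.length = 7 := rfl
    rw [List.getD_eq_getElem _ _ (by omega), List.getD_eq_getElem _ _ (by omega)]
  rw [e504] at h3
  refine ⟨?_, fun s hs => ?_⟩
  · rw [← h3, ← C.conj_word h1 (gen_tab h2).1, C.word_inv hG h1, halfWord, List.map_append,
      List.map_append, List.prod_append, List.prod_append]
    simp [x]
  · simp only [halfWord, List.mem_append, List.mem_reverse, List.mem_singleton] at hs
    rcases hs with (hs | rfl) | hs
    exacts [h1 s hs, h2, h1 s hs]

theorem q_facts {t : ℕ} (ht : t < 12) :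
    qA t < 504 ∧ qB t < 504 ∧ qA t ≠ qB t ∧ qA t / 4 = qB t / 4 ∧ (∀ s ∈ qW t, s < 7) ∧
      mem (qA t) * mem (qB t) = ((qW t).map C.x).prod := by
  have h := List.all_eq_true.1 halves_ok t (List.mem_range.2 ht)
  simp only [Bool.and_eq_true, decide_eq_true_eq] at h
  obtain ⟨⟨⟨⟨⟨hA, hB⟩, h1⟩, h2⟩, h3⟩, h4⟩ := h
  obtain ⟨eA, lA⟩ := C.mem_half hG hA
  obtain ⟨eB, lB⟩ := C.mem_half hG hB
  refine ⟨h1, h2, h3, h4, fun s hs => ?_, ?_⟩
  · rcases List.mem_append.1 hs with h | h
    exacts [lA s h, lB s h]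
  · rw [qW, List.map_append, List.prod_append, ← eA, ← eB]

/-- Every four is the image of the first. -/
theorem four_transitive (X : Fin 126) : ∃ g : C.H, C.four g ⟨0, by norm_num⟩ = X := by
  obtain ⟨-, g, hg⟩ := C.reached hG (headI X).2
  refine ⟨g, Fin.ext ?_⟩
  show (C.perm g (headI ⟨0, by norm_num⟩) : ℕ) / 4 = X
  rw [C.perm_eq (j := headI X) hg]
  exact headI_div X

/-- The members of a four commute. -/
theorem four_commute (X : Fin 126) (m m' : Fin 4) :
    Commute (mem (ptI X m)) (mem (ptI X m')) := by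
  obtain ⟨g, hg⟩ := C.four_transitive hG X
  have key : ∀ n : Fin 4, ∃ i : ℕ, i < 4 ∧ (g : G) * mem i * (g : G)⁻¹ = mem (ptI X n) := by
    intro n
    set i := (C.perm g⁻¹ (ptI X n)) with hi
    refine ⟨i, ?_, ?_⟩
    · have hb : blockI i = ⟨0, by norm_num⟩ := by
        rw [hi, ← C.blockFun_block, ptI_block, ← hg]
        show C.blockFun g⁻¹ (C.blockFun g _) = _
        rw [← C.blockFun_mul, inv_mul_cancel, C.blockFun_one]
      have := congrArg Fin.val hb
      change (i : ℕ) / 4 = 0 at this
      omega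
    · rw [C.perm_conj, hi, ← C.perm_mul, mul_inv_cancel, C.perm_one]
  obtain ⟨i, hi, e⟩ := key m
  obtain ⟨j, hj, e'⟩ := key m'
  rw [← e, ← e']
  exact (Commute.conj_iff _).2 (C.base_comm i hi j hj)

/-- The product of the members of a four. -/
theorem four_prod (X : Fin 126) :
    [mem (ptI X 0), mem (ptI X 1), mem (ptI X 2), mem (ptI X 3)].prod = z := by
  obtain ⟨g, hg⟩ := C.four_transitive hG X
  let X₀ : Fin 126 := ⟨0, by norm_num⟩
  let σ : Fin 4 → Fin 4 := fun m => posI (C.perm g (ptI X₀ m))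
  have hσ : ∀ m, C.perm g (ptI X₀ m) = ptI X (σ m) := fun m => by
    have hb : blockI (C.perm g (ptI X₀ m)) = X := by rw [← C.blockFun_block, ptI_block]; exact hg
    conv_lhs => rw [← ptI_pos (C.perm g (ptI X₀ m)), hb]
  have hinj : Function.Injective σ := fun a b e => by
    have e' := hσ a
    rw [e, ← hσ b] at e'
    exact ptI_inj X₀ ((C.perm g).injective e')
  have hp : (List.ofFn σ).Perm (List.ofFn (id : Fin 4 → Fin 4)) := by
    refine (List.perm_ext_iff_of_nodup (List.nodup_ofFn.2 hinj)
      (List.nodup_ofFn.2 Function.injective_id)).2 fun a => ?_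
    simp only [List.mem_ofFn, id, exists_eq]
    exact iff_of_true ((Finite.injective_iff_surjective.1 hinj) a) trivial
  let l : List G := (List.ofFn σ).map fun m => mem (ptI X m)
  have hc : l.Pairwise Commute := List.pairwise_of_forall_mem_list fun a ha b hb => by
    obtain ⟨m, -, rfl⟩ := List.mem_map.1 ha
    obtain ⟨m', -, rfl⟩ := List.mem_map.1 hb
    exact C.four_commute hG X m m'
  have h1 := prod_perm hc (hp.map _)
  simp only [List.ofFn_succ, List.ofFn_zero, id, List.map_cons, List.map_nil] at h1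
  have h2 : l.prod = z := by
    simp only [l, List.ofFn_succ, List.ofFn_zero, List.map_cons, List.map_nil, List.prod_cons,
      List.prod_nil, mul_one, ← hσ, ← C.perm_conj]
    have hz : (g : G) * z * (g : G)⁻¹ = z := by
      rw [(C.commute_z g.2).eq, mul_inv_cancel_right]
    refine Eq.trans ?_ hz
    have hb : (g : G) * z * (g : G)⁻¹ =
        (g : G) * (mem 0 * mem 1 * mem 2 * mem 3) * (g : G)⁻¹ :=
      congrArg (fun t => (g : G) * t * (g : G)⁻¹) C.base_prod.symm
    rw [hb]
    simp only [X₀, ptI, mul_assoc, inv_mul_cancel_left]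
    rfl
  exact h1.trans h2

end Cert

end CfsgLib.ThreeTransp.TypeTwentyFour.FourCentre
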