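import Cfsg.Agent.Lib.ThreeTransp.TypeTwentyFour.FourCentre.Cert
import Cfsg.Agent.Lib.ThreeTransp.TypeTwentyFour.FourCentre.ActA
import Cfsg.Agent.Lib.ThreeTransp.TypeTwentyFour.FourCentre.ActB
import Cfsg.Agent.Lib.ThreeTransp.TypeTwentyFour.FourCentre.ActC
import Cfsg.Agent.Lib.ThreeTransp.TypeTwentyFour.FourCentre.ActD
import Cfsg.Agent.Lib.Sporadic.Fi24Model.Instance

/-!
# The certificate holds in the presented Fi24

The members are the conjugates of `l` at the 504 points; the seven and the exchange move the points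
by the packed permutations.
-/

set_option autoImplicit false
set_option maxRecDepth 100000
set_option Elab.async false

open Cfsg.Spor

namespace CfsgLib.ThreeTransp.TypeTwentyFour.FourCentre

open CfsgLib.Sporadic.Fi24Model (size infPt gen val hom wperm runNet netsOf wordCode force eqPlanes ptsMask labelK classL)
open CfsgLib.Sporadic

/-- The words of the seven and of the base reach their points, and those are fixed as needed. -/
theorem labels_ok :
    (List.range 7).all (fun s => labelK (gWord.getD s []) (ptAt (gIdx.getD s 0)) &&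
      labelK (zWord ++ gWord.getD s []) (ptAt (gIdx.getD s 0))) = true := by
  decide +kernel

theorem base_ok : (List.range 4).all (fun j => labelK (baseWord.getD j []) (ptAt j) &&
    (List.range 4).all fun i => labelK (memWord (baseWord.getD i []) ++ baseWord.getD j []) (ptAt j)) = true := by
  decide +kernel

theorem oTab_base : (List.range 4).map (lk9 oTab) = [0, 2, 1, 3] := by decide +kernel

open _root_.Classical in
/-- The conjugate of `l` at a point. -/
noncomputable def dpt (p : ℕ) : Fi24 :=
  if h : ∃ g : Fi24, ((hom g infPt : Fin size) : ℕ) = p then h.choose * gen 0 * h.choose⁻¹ else 1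

theorem dpt_spec {g : Fi24} {p : ℕ} (h : ((hom g infPt : Fin size) : ℕ) = p) :
    dpt p = g * gen 0 * g⁻¹ := by
  have hex : ∃ g : Fi24, ((hom g infPt : Fin size) : ℕ) = p := ⟨g, h⟩
  rw [dpt, dif_pos hex]
  set k := hex.choose
  have hk : hom k infPt = hom g infPt := Fin.ext (hex.choose_spec.trans h.symm)
  have hm : g⁻¹ * k ∈ Fi24Model.Hsub := (Fi24Model.hom_fix_iff _).1 (by
    rw [map_mul, map_inv, Equiv.Perm.mul_apply, hk, Equiv.Perm.inv_def, Equiv.symm_apply_apply])
  have hc := Subgroup.mem_centralizer_singleton_iff.1 (Fi24Model.centralizer_l.ge hm)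
  calc k * gen 0 * k⁻¹ = g * (g⁻¹ * k * gen 0) * k⁻¹ := by group
    _ = _ := by rw [hc]; group

theorem exists_to {p : ℕ} (h : p < 306936) : ∃ g : Fi24, ((hom g infPt : Fin size) : ℕ) = p := by
  have hp : (⟨p, lt_trans h (by norm_num)⟩ : Fin size) ∈ {u : Fin size | (u : ℕ) < 306936} := h
  rw [← Fi24Model.range_pos] at hp
  obtain ⟨q, hq⟩ := hp
  obtain ⟨g, rfl⟩ := QuotientGroup.mk_surjective q
  rw [Fi24Model.UB.pos_mk] at hq
  exact ⟨g, congrArg Fin.val hq⟩

/-- The members of the model. -/
noncomputable def memF (i : ℕ) : Fi24 := dpt (ptAt i)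

theorem memF_conj {g : Fi24} {i j : ℕ} (hi : i < 504) (hj : j < 504)
    (h : hom g (ptF i hi) = ptF j hj) : g * memF i * g⁻¹ = memF j := by
  obtain ⟨k, hk⟩ := exists_to (ptAt_bound hi)
  have hg : ((hom (g * k) infPt : Fin size) : ℕ) = ptAt j := by
    rw [map_mul, Equiv.Perm.mul_apply, show hom k infPt = ptF i hi from Fin.ext hk, h]
    rfl
  rw [memF, memF, dpt_spec hk, dpt_spec hg]
  group

theorem memF_word {W : List ℕ} {i : ℕ} (h : labelK W (ptAt i) = true) :
    memF i = val (memWord W) := by
  have hw : ∀ x ∈ W, x < 12 := fun x hx => by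
    simp only [labelK, Bool.and_eq_true, List.all_eq_true, Nat.blt_eq] at h
    exact h.1.1 x hx
  rw [memF, dpt_spec (Fi24Model.label_spec h), memWord, Fi24Model.val_append, Fi24Model.val_append,
    Fi24Model.val_single, Fi24Model.val_reverse hw]

theorem memF_fix {W : List ℕ} {w : List ℕ} {i : ℕ} (hi : i < 504) (hW : labelK W (ptAt i) = true)
    (h : labelK (w ++ W) (ptAt i) = true) : Commute (val w) (memF i) := by
  have e : hom (val w) (ptF i hi) = ptF i hi := by
    have h1 : hom (val W) infPt = ptF i hi := Fin.ext (Fi24Model.label_spec hW)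
    have h2 : hom (val (w ++ W)) infPt = ptF i hi := Fin.ext (Fi24Model.label_spec h)
    rwa [Fi24Model.val_append, map_mul, Equiv.Perm.mul_apply, h1] at h2
  exact mul_inv_eq_iff_eq_mul.1 (memF_conj hi hi e)

theorem memF_class {i : ℕ} (hi : i < 504) : memF i ∈ classL := by
  obtain ⟨k, hk⟩ := exists_to (ptAt_bound hi)
  rw [memF, dpt_spec hk]
  exact isConj_iff.2 ⟨k, rfl⟩

theorem memF_zero : memF 0 = gen 0 := by
  rw [memF, dpt_spec (g := 1) (by rw [map_one]; rfl), one_mul, inv_one, mul_one]

theorem zF_eq : memF 0 * memF 1 * memF 2 * memF 3 = val zWord := by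
  have h := List.all_eq_true.1 base_ok
  simp only [List.mem_range, Bool.and_eq_true] at h
  rw [memF_word (h 0 (by norm_num)).1, memF_word (h 1 (by norm_num)).1,
    memF_word (h 2 (by norm_num)).1, memF_word (h 3 (by norm_num)).1]
  simp [zWord, baseWord, Fi24Model.val_append, mul_assoc]

theorem base_commute {i j : ℕ} (hi : i < 4) (hj : j < 4) : Commute (memF i) (memF j) := by
  have h := List.all_eq_true.1 base_ok
  simp only [List.mem_range, Bool.and_eq_true, List.all_eq_true] at h
  rw [memF_word (h i hi).1]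
  exact memF_fix (by omega) (h j hj).1 ((h j hj).2 i hi)

theorem seven_act {s : ℕ} (hs : s < 7) : actOK (memWord (gWord.getD s [])) (gTabs.getD s 0) = true := by
  interval_cases s
  exacts [act0, act1, act2, act3, act4, act5, act6]

/-- The certificate in the model. -/
theorem cert_model : Cert classL (memF 0 * memF 1 * memF 2 * memF 3) memF (val oWord) := by
  have hl := List.all_eq_true.1 labels_ok
  simp only [List.mem_range, Bool.and_eq_true] at hl
  have hg : ∀ s < 7, gIdx.getD s 0 < 504 := fun s hs => (gen_tab hs).1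
  refine ⟨memF_class (by norm_num), fun i hi j hj h => ?_, fun s hs i hi => ?_, fun s hs => ?_,
    fun i hi => ?_, ?_, fun i hi j hj => base_commute hi hj, rfl⟩
  · obtain ⟨k, hk⟩ := exists_to (ptAt_bound hi)
    obtain ⟨l, hl'⟩ := exists_to (ptAt_bound hj)
    rw [memF, memF, dpt_spec hk, dpt_spec hl'] at h
    have hm : l⁻¹ * k ∈ Fi24Model.Hsub := Fi24Model.centralizer_l.le
      (Subgroup.mem_centralizer_singleton_iff.2 (by
        calc l⁻¹ * k * gen 0 = l⁻¹ * (k * gen 0 * k⁻¹) * k := by group
          _ = gen 0 * (l⁻¹ * k) := by rw [h]; group))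
    have e := (Fi24Model.hom_fix_iff _).2 hm
    rw [map_mul, map_inv, Equiv.Perm.mul_apply, Equiv.Perm.inv_def, Equiv.symm_apply_eq] at e
    exact ptAt_inj hi hj (hk.symm.trans ((congrArg Fin.val e).trans hl'))
  · rw [memF_word (hl s hs).1]
    exact memF_conj hi (tb_lt hs hi) (actOK_spec (seven_act hs) hi (tb_lt hs hi))
  · rw [zF_eq]
    exact (memF_fix (hg s hs) (hl s hs).1 (hl s hs).2).symm
  · exact memF_conj hi (lk_facts oTab_ok hi).1 (actOK_spec actO hi (lk_facts oTab_ok hi).1)
  · have h4 : ∀ i < 4, val oWord * memF i * (val oWord)⁻¹ = memF (([0, 2, 1, 3] : List ℕ).getD i 0) := by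
      intro i hi
      have e : lk9 oTab i = ([0, 2, 1, 3] : List ℕ).getD i 0 := by
        rw [← oTab_base, List.getD_eq_getElem _ _ (by simpa using hi), List.getElem_map, List.getElem_range]
      rw [← e]
      exact memF_conj (by omega) (lk_facts oTab_ok (by omega)).1
        (actOK_spec actO (by omega) (lk_facts oTab_ok (by omega)).1)
    refine mul_inv_eq_iff_eq_mul.1 ?_
    calc val oWord * (memF 0 * memF 1 * memF 2 * memF 3) * (val oWord)⁻¹
        = (val oWord * memF 0 * (val oWord)⁻¹) * (val oWord * memF 1 * (val oWord)⁻¹) *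
            (val oWord * memF 2 * (val oWord)⁻¹) * (val oWord * memF 3 * (val oWord)⁻¹) := by group
      _ = memF 0 * memF 2 * memF 1 * memF 3 := by
          rw [h4 0 (by norm_num), h4 1 (by norm_num), h4 2 (by norm_num), h4 3 (by norm_num)]
          rfl
      _ = _ := by
          rw [mul_assoc (memF 0), (base_commute (show 2 < 4 by norm_num) (show 1 < 4 by norm_num)).eq,
            ← mul_assoc]

end CfsgLib.ThreeTransp.TypeTwentyFour.FourCentre
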