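import Cfsg.Agent.Lib.ThreeTransp.TypeTwentyFour.FourCentre.Tables
import Cfsg.Agent.Lib.Sporadic.Fi24Model.Orbits

/-!
# The check that a word moves the 504 points as a packed permutation

The points and nine planes of their positions are pulled through the networks of the word.
-/

set_option autoImplicit false
set_option maxRecDepth 100000
set_option Elab.async false

open Cfsg.Spor

namespace CfsgLib.ThreeTransp.TypeTwentyFour.FourCentre

open CfsgLib.Sporadic.Fi24Model (size infPt gen val hom wperm runNet netsOf wordCode force eqPlanes ptsMask labelK)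
open CfsgLib.Sporadic

/-- Words carrying the base point to the four points of the first four. -/
def baseWord : List (List ℕ) :=
  [[], [1, 2, 0, 1], [3, 4, 2, 3, 1, 2, 0, 1], [5, 6, 4, 5, 3, 4, 2, 3, 1, 2, 0, 1]]

/-- The word of a member. -/
def memWord (W : List ℕ) : List ℕ := W ++ [0] ++ W.reverse

/-- The word of the product of four. -/
def zWord : List ℕ := (baseWord.map memWord).flatten

/-- A point of the list. -/
def ptAt (i : ℕ) : ℕ := pts.getD i 0

/-- The points not yet seen are distinct. -/
noncomputable def distinctK (l : List ℕ) : ℕ → Bool :=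
  List.rec (motive := fun _ => ℕ → Bool) (fun _ => true)
    (fun p _ ih seen => !Nat.testBit seen p && force (Nat.lor seen (Nat.shiftLeft 1 p)) ih) l

theorem distinctK_spec : ∀ {l : List ℕ} {seen : ℕ}, distinctK l seen = true →
    l.Nodup ∧ ∀ p ∈ l, seen.testBit p = false := by
  intro l
  induction l with
  | nil => intro seen _; exact ⟨List.nodup_nil, by simp⟩
  | cons p t ih =>
    intro seen h
    change (!Nat.testBit seen p && force (Nat.lor seen (Nat.shiftLeft 1 p)) (distinctK t)) = true at h
    rw [Fi24Model.force_eq, Bool.and_eq_true, Bool.not_eq_true'] at h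
    obtain ⟨h1, h2⟩ := h
    obtain ⟨hn, hs⟩ := ih h2
    have hs' : ∀ q ∈ t, seen.testBit q = false ∧ q ≠ p := fun q hq => by
      have h3 := hs q hq
      change (seen ||| 1 <<< p).testBit q = false at h3
      rw [Nat.testBit_or, Bool.or_eq_false_iff, Nat.one_shiftLeft, Nat.testBit_two_pow,
        decide_eq_false_iff_not] at h3
      exact ⟨h3.1, fun e => h3.2 e.symm⟩
    refine ⟨List.nodup_cons.2 ⟨fun hp => (hs' p hp).2 rfl, hn⟩, fun q hq => ?_⟩
    rcases List.mem_cons.1 hq with rfl | hq
    exacts [h1, (hs' q hq).1]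

theorem pts_check : (Nat.beq pts.length 504 && distinctK pts 0 && pts.all fun p => Nat.blt p 306936) = true := by
  decide +kernel

theorem pts_ok : pts.length = 504 ∧ pts.Nodup ∧ ∀ p ∈ pts, p < 306936 := by
  have h := pts_check
  simp only [Bool.and_eq_true, List.all_eq_true, Nat.blt_eq, Nat.beq_eq] at h
  exact ⟨h.1.1, (distinctK_spec h.1.2).1, h.2⟩

/-- The points at the selected positions. -/
noncomputable def selPts (P : ℕ → Bool) : List ℕ :=
  (pts.zipIdx.filter fun e => P e.2).map Prod.fst

/-- The points whose positions have a bit after a packed permutation. -/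
noncomputable def imgMask (T j : ℕ) : ℕ := ptsMask (selPts fun i => (lk9 T i).testBit j)

/-- The points whose positions have a bit. -/
noncomputable def posMask (j : ℕ) : ℕ := ptsMask (selPts fun i => i.testBit j)

/-- A word moves the points as a packed permutation. -/
noncomputable def actOK (w : List ℕ) (T : ℕ) : Bool :=
  w.all (fun x => Nat.blt x 12) && force (ptsMask pts) fun M =>
    eqPlanes (runNet (netsOf (wordCode w)) (M :: (List.range 9).map posMask))
      (M :: (List.range 9).map (imgMask T))

theorem ptsMask_of_mem : ∀ {R : List ℕ} {u : ℕ}, u ∈ R → (ptsMask R).testBit u = true := by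
  intro R
  induction R with
  | nil => intro u h; cases h
  | cons p t ih =>
    intro u h
    show (1 <<< p ||| ptsMask t).testBit u = true
    rw [Nat.testBit_or, Bool.or_eq_true]
    rcases List.mem_cons.1 h with rfl | h
    · exact Or.inl (by rw [Nat.one_shiftLeft, Nat.testBit_two_pow_self])
    · exact Or.inr (ih h)

theorem mem_pts {k : ℕ} (hk : k < 504) : ptAt k ∈ pts := by
  unfold ptAt
  rw [List.getD_eq_getElem _ _ (by rw [pts_ok.1]; exact hk)]
  exact List.getElem_mem _

theorem ptAt_bound {i : ℕ} (hi : i < 504) : ptAt i < 306936 := pts_ok.2.2 _ (mem_pts hi)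

theorem ptAt_lt {i : ℕ} (hi : i < 504) : ptAt i < size :=
  lt_trans (ptAt_bound hi) (by norm_num)

theorem ptAt_inj {i j : ℕ} (hi : i < 504) (hj : j < 504) (h : ptAt i = ptAt j) : i = j := by
  have h1 : i < pts.length := by rw [pts_ok.1]; exact hi
  have h2 : j < pts.length := by rw [pts_ok.1]; exact hj
  unfold ptAt at h
  rw [List.getD_eq_getElem _ _ h1, List.getD_eq_getElem _ _ h2] at h
  exact (pts_ok.2.1.getElem_inj_iff).1 h

/-- A point of the list in the model. -/
def ptF (i : ℕ) (hi : i < 504) : Fin size := ⟨ptAt i, ptAt_lt hi⟩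

theorem ptsMask_sel {P : ℕ → Bool} {i : ℕ} (hi : i < 504) :
    (ptsMask (selPts P)).testBit (ptAt i) = P i := by
  have hl : i < pts.length := by rw [pts_ok.1]; exact hi
  apply Bool.eq_iff_iff.2
  constructor
  · intro hm
    obtain ⟨⟨p, k⟩, hk, hke⟩ := List.mem_map.1 (Fi24Model.ptsMask_testBit _ _ hm)
    obtain ⟨hk1, hk2⟩ := List.mem_filter.1 hk
    obtain ⟨-, hk3, hk4⟩ := List.mem_zipIdx hk1
    rw [Nat.zero_add] at hk3
    have e : ptAt k = ptAt i := by
      rw [← hke, hk4]
      simp [ptAt, hk3]
    rwa [← ptAt_inj (pts_ok.1 ▸ hk3) hi e]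
  · intro hb
    refine ptsMask_of_mem (List.mem_map.2 ⟨(ptAt i, i), List.mem_filter.2 ⟨?_, hb⟩, rfl⟩)
    rw [List.mem_zipIdx_iff_getElem?]
    simp [ptAt, hl]

/-- Planes pulled through the networks of a word. -/
theorem planes_spec {w : List ℕ} (hw : ∀ x ∈ w, x < 12) {A B : List ℕ}
    (h : eqPlanes (runNet (netsOf (wordCode w)) A) B = true) (u : Fin size) (j : ℕ) :
    (B.getD j 0).testBit u = (A.getD j 0).testBit (hom (val w) u : Fin size) := by
  have hs := Fi24Model.runNet_spec (Fi24Model.okNet_netsOf (wordCode w)) A j u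
  rw [Fi24Model.netPerm_word, ← Fi24Model.hom_val hw, Fi24Model.eqPlanes_eq h] at hs
  exact hs

/-- Planes of membership and of the position bits determine the image. -/
theorem image_of_planes {w : List ℕ} (hw : ∀ x ∈ w, x < 12) {M : ℕ} {f g : ℕ → ℕ}
    {q : ℕ → ℕ} (h : eqPlanes (runNet (netsOf (wordCode w)) (M :: (List.range 9).map g))
      (M :: (List.range 9).map f) = true)
    (hM : ∀ u, M.testBit u = true → ∃ k < 504, q k = u) {t : ℕ} (ht : t < 504) {u : Fin size}
    (hu : M.testBit u = true)
    (hf : ∀ j < 9, (f j).testBit u = t.testBit j)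
    (hg : ∀ j < 9, ∀ k < 504, (g j).testBit (q k) = k.testBit j) :
    ((hom (val w) u : Fin size) : ℕ) = q t := by
  have h0 := planes_spec hw h u 0
  rw [List.getD_cons_zero, List.getD_cons_zero, hu] at h0
  obtain ⟨k, hk, hke⟩ := hM _ h0.symm
  have hkt : k = t := Nat.eq_of_testBit_eq fun j => by
    by_cases hj : j < 9
    · have h1 := planes_spec hw h u (j + 1)
      rw [List.getD_cons_succ, List.getD_cons_succ, List.getD_eq_getElem _ _ (by simpa using hj),
        List.getD_eq_getElem _ _ (by simpa using hj), List.getElem_map, List.getElem_map,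
        List.getElem_range, ← hke, hf j hj, hg j hj k hk] at h1
      exact h1.symm
    · have h9 : (512 : ℕ) ≤ 2 ^ j := le_trans (by norm_num) (Nat.pow_le_pow_right (by norm_num) (by omega : 9 ≤ j))
      rw [Nat.testBit_lt_two_pow (by omega), Nat.testBit_lt_two_pow (by omega)]
  rw [← hke, hkt]

theorem exists_ptAt {u : ℕ} (h : u ∈ pts) : ∃ k < 504, ptAt k = u := by
  obtain ⟨k, hk, hke⟩ := List.mem_iff_getElem.1 h
  refine ⟨k, pts_ok.1 ▸ hk, ?_⟩
  unfold ptAt
  rw [List.getD_eq_getElem _ _ hk]
  exact hke

theorem actOK_spec {w : List ℕ} {T : ℕ} (h : actOK w T = true) {i : ℕ} (hi : i < 504)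
    (hT : lk9 T i < 504) : hom (val w) (ptF i hi) = ptF (lk9 T i) hT := by
  unfold actOK at h
  rw [Bool.and_eq_true, Fi24Model.force_eq, List.all_eq_true] at h
  have hw' : ∀ x ∈ w, x < 12 := fun x hx => Nat.le_of_ble_eq_true (h.1 x hx)
  exact Fin.ext (image_of_planes (q := ptAt) (u := ptF i hi) hw' h.2
    (fun u hu => exists_ptAt (Fi24Model.ptsMask_testBit _ _ hu)) hT (ptsMask_of_mem (mem_pts hi))
    (fun _ _ => ptsMask_sel hi) (fun _ _ _ hk => ptsMask_sel hk))

end CfsgLib.ThreeTransp.TypeTwentyFour.FourCentre
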