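import Cfsg.Agent.Lib.ThreeTransp.TypeTwentyFour.FourCentre.Trans
import Cfsg.Agent.Lib.ThreeTransp.TypeTwentyFour.FourCentre.Bound

/-!
# The orders of the whole centralizer and of its pieces
-/

universe u

set_option autoImplicit false
set_option linter.unusedSectionVars false

namespace CfsgLib.ThreeTransp.TypeTwentyFour.FourCentre

open CfsgLib.Orth CfsgLib.Sporadic FourProd

attribute [local irreducible] tb lk9 lab runW qW wWord mWord

theorem pair_mem_K1 {v : W6} (e : q6 v = 2) : refl Q6 u0 * refl Q6 v ∈ K1 := by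
  obtain ⟨u', hu', h1, h2⟩ := connect v e
  have hm := mul_mem (orth_pair (by decide +kernel) hu' h1) (orth_pair hu' e h2)
  rwa [← mul_assoc, mul_assoc (refl Q6 u0), refl_mul_self, mul_one] at hm

theorem wWord_lt : ∀ s ∈ wWord, s < 7 := fun s hs =>
  of_decide_eq_true (List.all_eq_true.1 w_letters.1 s hs)

theorem wWord_twice_lt : ∀ s ∈ wWord ++ wWord, s < 7 := fun s hs =>
  wWord_lt s ((List.mem_append.1 hs).elim id id)

theorem qW_zero_comm : ∃ i : Fin 504, runW (wWord ++ qW 0) i ≠ runW (qW 0 ++ wWord) i := by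
  rcases w_not_comm with h | h
  · exact ⟨⟨0, by norm_num⟩, h⟩
  · obtain ⟨i, hi, h⟩ := List.any_eq_true.1 h
    exact ⟨⟨i, List.mem_range.1 hi⟩, of_decide_eq_true h⟩

namespace Cert

variable {G : Type u} [Group G] [Finite G] {D : Set G} {z : G} {mem : ℕ → G} {o : G}
  (C : Cert D z mem o)
include C

/-- The kernel of the action on the fours. -/
noncomputable def K : Subgroup C.H := C.four.ker

/-- The element fixing every four. -/
noncomputable def w : C.H := ⟨(wWord.map C.x).prod, C.word_mem wWord_lt⟩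

theorem w_perm (i : Fin 504) : (C.perm C.w i : ℕ) = runW wWord i := C.perm_word wWord_lt rfl i

theorem w_K : C.w ∈ C.K := MonoidHom.mem_ker.2 (Equiv.ext fun X => Fin.ext (by
  show (C.perm C.w (headI X) : ℕ) / 4 = X
  rw [C.w_perm, of_decide_eq_true (List.all_eq_true.1 w_fixes _ (List.mem_range.2 (headI X).2))]
  exact headI_div X))

theorem w_not_Tr : C.w ∉ C.Tr := fun h => by
  have := transW_of_isT C.w_perm h
  rw [w_not_trans.1] at this
  exact Bool.false_ne_true this

theorem w_sq_not_Tr : C.w * C.w ∉ C.Tr := fun h => by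
  have hp : ∀ i : Fin 504, (C.rho (C.w * C.w) i : ℕ) = runW (wWord ++ wWord) i := fun i => by
    show (C.perm (C.w * C.w) i : ℕ) = _
    rw [C.perm_mul, C.w_perm, C.w_perm, runW_append]
  have := transW_of_isT hp h
  rw [w_not_trans.2] at this
  exact Bool.false_ne_true this

/-- The kernel is at least three times the translations. -/
theorem three_le : 3 * Nat.card C.Tr ≤ Nat.card C.K := by
  let pw : Fin 3 → C.H := ![1, C.w, C.w * C.w]
  have hmem : ∀ i, pw i ∈ C.K := fun i => by
    fin_cases i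
    exacts [one_mem _, C.w_K, mul_mem C.w_K C.w_K]
  have hinv : ∀ i j : Fin 3, (pw i)⁻¹ * pw j ∈ C.Tr → i = j := by
    intro i j
    have a := C.w_not_Tr
    have b := C.w_sq_not_Tr
    have a' : C.w⁻¹ ∉ C.Tr := fun h => a (inv_mem_iff.1 h)
    have b' : (C.w * C.w)⁻¹ ∉ C.Tr := fun h => b (inv_mem_iff.1 h)
    fin_cases i <;> fin_cases j <;>
      simp [pw, inv_mul_cancel_left, mul_assoc] <;> intro h <;>
      first | exact a h | exact b h | exact a' h | exact b' (by rwa [mul_inv_rev])
  let F : Fin 3 × C.Tr → C.K := fun p => ⟨pw p.1 * p.2, mul_mem (hmem p.1) (C.Tr_le_ker p.2.2)⟩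
  have hF : Function.Injective F := by
    rintro ⟨i, a⟩ ⟨j, b⟩ h
    have h' : pw i * (a : C.H) = pw j * b := congrArg Subtype.val h
    have hij := hinv i j (by
      have e : (pw i)⁻¹ * pw j = (a : C.H) * (b : C.H)⁻¹ := by
        rw [inv_mul_eq_iff_eq_mul, ← mul_assoc, h', mul_inv_cancel_right]
      rw [e]
      exact mul_mem a.2 (inv_mem b.2))
    subst hij
    exact Prod.ext rfl (Subtype.ext (mul_left_cancel h'))
  have h := Nat.card_le_card_of_injective F hF
  rwa [Nat.card_prod, Nat.card_fin] at h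

variable (E : Env D)
include E

theorem range_le : lineHom.range ≤ C.four.range := by
  have h1 : ∀ v, q6 v = 1 → lineHom (refl Q6 v) ∈ C.four.range := fun v hv => by
    obtain ⟨X, hX⟩ := exists_line hv
    refine ⟨C.memH E.ctx.hG (headI X), ?_⟩
    rw [C.four_mem, ← refl_line hX]
    rw [show blockI (headI X) = X from Fin.ext (headI_div X)]
  have hK1 : K1 ≤ C.four.range.comap lineHom := by
    rw [K1, Subgroup.closure_le]
    rintro _ ⟨v, hv, rfl⟩
    exact h1 v hv
  rintro _ ⟨g, rfl⟩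
  have hg : g ∈ reflGroup Q6 := by
    rw [reflGroup_eq_top Q6_nondeg (good_of_two_ne two_ne)]
    trivial
  suffices hh : reflGroup Q6 ≤ C.four.range.comap lineHom from hh hg
  rw [reflGroup, Subgroup.closure_le]
  rintro _ ⟨v, rfl⟩
  rcases (show ∀ t : ZMod 3, t = 0 ∨ t = 1 ∨ t = 2 by decide) (q6 v) with e | e | e
  · rw [show refl Q6 v = 1 from Subtype.ext (LinearEquiv.ext fun w => by
      rw [refl_eq]; funext l; simp [reflA, e])]
    exact one_mem _
  · exact h1 v e
  · have hv : refl Q6 v = refl Q6 oV * ((refl Q6 u0 * refl Q6 oV)⁻¹ * (refl Q6 u0 * refl Q6 v)) := by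
      group
    rw [SetLike.mem_coe, hv]
    exact mul_mem ⟨_, C.four_o⟩ (hK1 (mul_mem (inv_mem (pair_mem_K1 oV_norm)) (pair_mem_K1 e)))

theorem four_range : C.four.range = lineHom.range := by
  refine le_antisymm ?_ (C.range_le E)
  rintro _ ⟨⟨g, hg⟩, rfl⟩
  induction hg using Subgroup.closure_induction with
  | mem g hg =>
    rcases hg with ⟨s, hs, rfl⟩ | rfl
    · exact ⟨_, (C.four_x hs).symm⟩
    · exact ⟨_, C.four_o.symm⟩
  | one => exact (show C.four ⟨1, C.H.one_mem⟩ = 1 from map_one C.four).symm ▸ one_mem _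
  | mul a b ha hb ia ib =>
    rw [show (⟨a * b, C.H.mul_mem ha hb⟩ : C.H) = ⟨a, ha⟩ * ⟨b, hb⟩ from rfl, map_mul]
    exact mul_mem ia ib
  | inv a ha ia =>
    rw [show (⟨a⁻¹, C.H.inv_mem ha⟩ : C.H) = ⟨a, ha⟩⁻¹ from rfl, map_inv]
    exact inv_mem ia

theorem z_prod : IsProd D 4 z := by
  refine ⟨[mem 0, mem 1, mem 2, mem 3], ?_, rfl, ?_, ?_, by simpa [mul_assoc] using C.base_prod⟩
  · have ne : ∀ i j, i < 4 → j < 4 → i ≠ j → mem i ≠ mem j := fun i j hi hj h e =>
      h (C.inj i (by omega) j (by omega) e)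
    simp [ne]
  · simp [C.mem_D E.ctx.hG]
  · intro a ha b hb
    simp only [List.mem_cons, List.not_mem_nil, or_false] at ha hb
    rcases ha with rfl | rfl | rfl | rfl <;> rcases hb with rfl | rfl | rfl | rfl <;>
      exact C.base_comm _ (by norm_num) _ (by norm_num)

theorem z_ne_one : z ≠ 1 := by
  intro h
  have hb := card_centralizer_le E (C.z_prod E)
  have e : Subgroup.centralizer ({z} : Set G) = ⊤ := by
    rw [eq_top_iff]
    intro g _
    rw [Subgroup.mem_centralizer_singleton_iff, h, mul_one, one_mul]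
  rw [e, Subgroup.card_top, E.ctx.data.card_group] at hb
  norm_num at hb

/-- All the orders. -/
theorem sizes : C.H = Subgroup.centralizer ({z} : Set G) ∧ Nat.card C.H = 321052999680 ∧
    Nat.card C.K = 24576 ∧ Nat.card C.Tr = 8192 ∧ C.Qc E.ctx.hG = C.Tr := by
  have hle : C.H ≤ Subgroup.centralizer ({z} : Set G) := fun g hg =>
    Subgroup.mem_centralizer_singleton_iff.2 (C.commute_z hg).eq
  have hb := card_centralizer_le E (C.z_prod E)
  have hH := Subgroup.card_le_of_le hle
  have hQ := C.card_Qc E.ctx.hG (C.z_ne_one E)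
  have hQT := Subgroup.card_le_of_le (C.Qc_le E.ctx.hG)
  have h3 := C.three_le
  have hr := card_range_ge lineHom lineHom_ker
  rw [← C.four_range E] at hr
  have hprod : Nat.card C.K * Nat.card C.four.range = Nat.card C.H := by
    rw [← Subgroup.index_ker]
    exact C.four.ker.card_mul_index
  have hK : 24576 ≤ Nat.card C.K := by omega
  have h2 : 321052999680 ≤ Nat.card C.H := by
    rw [← hprod]
    exact le_trans (by norm_num) (Nat.mul_le_mul hK hr)
  have hHeq : Nat.card C.H = 321052999680 := le_antisymm (hH.trans hb) h2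
  have hKeq : Nat.card C.K = 24576 := by
    refine le_antisymm ?_ hK
    by_contra hlt
    have := Nat.mul_le_mul (show 24577 ≤ Nat.card C.K by omega) hr
    omega
  refine ⟨Subgroup.eq_of_le_of_card_ge hle (by omega), hHeq, hKeq, by omega, ?_⟩
  exact Subgroup.eq_of_le_of_card_ge (C.Qc_le E.ctx.hG) (by omega)

/-- An element of the kernel outside the translations generates the kernel with them. -/
theorem K_le {S : Subgroup C.H} (hT : C.Tr ≤ S) {g : C.H} (hgS : g ∈ S) (hgK : g ∈ C.K)
    (hgT : g ∉ C.Tr) : C.K ≤ S := by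
  obtain ⟨-, -, hK, hTr, -⟩ := C.sizes E
  have hl : C.Tr ≤ S ⊓ C.K := le_inf hT C.Tr_le_ker
  obtain ⟨a, ha⟩ := Subgroup.card_dvd_of_le hl
  have hd := Subgroup.card_dvd_of_le (inf_le_right : S ⊓ C.K ≤ C.K)
  rw [hK, ha, hTr, show 24576 = 8192 * 3 from rfl] at hd
  rcases (Nat.dvd_prime Nat.prime_three).1 (Nat.dvd_of_mul_dvd_mul_left (by norm_num) hd) with e | e
  · have : S ⊓ C.K ≤ C.Tr := le_of_eq (Subgroup.eq_of_le_of_card_ge hl (by rw [ha, e, mul_one])).symm
    exact absurd (this ⟨hgS, hgK⟩) hgT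
  · exact le_trans (le_of_eq (Subgroup.eq_of_le_of_card_ge (inf_le_right : S ⊓ C.K ≤ C.K)
      (by rw [ha, e, hK, hTr])).symm) inf_le_left

/-- The elements centralizing the translations lie among them. -/
theorem centralizer_Tr : Subgroup.centralizer (C.Tr : Set C.H) ≤ C.Tr := by
  have hG := E.ctx.hG
  set Z0 := Subgroup.centralizer (C.Tr : Set C.H) with hZ0
  have hrange := C.four_range E
  have hsimple := simple_OmI lineHom lineHom_ker
  have hOn : ∀ x ∈ lineHom.range, ∀ y ∈ OmI lineHom, x * y * x⁻¹ ∈ OmI lineHom := by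
    rintro _ ⟨g, rfl⟩ _ ⟨a, ha, rfl⟩
    exact ⟨g * a * g⁻¹, (inferInstance : (commutator (orthGroup Q6)).Normal).conj_mem a ha g,
      by rw [map_mul, map_mul, map_inv]⟩
  have hZn : ∀ x ∈ lineHom.range, ∀ y ∈ Z0.map C.four, x * y * x⁻¹ ∈ Z0.map C.four := by
    intro x hx y hy
    obtain ⟨g, rfl⟩ : x ∈ C.four.range := hrange ▸ hx
    obtain ⟨a, ha, rfl⟩ := hy
    exact ⟨g * a * g⁻¹, (inferInstance : Z0.Normal).conj_mem a ha g, by rw [map_mul, map_mul, map_inv]⟩
  have hle : OmI lineHom ≤ lineHom.range := Subgroup.map_le_range _ _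
  haveI : ((Z0.map C.four).subgroupOf (OmI lineHom)).Normal :=
    ⟨fun y hy x => hZn x (hle x.2) y hy⟩
  have inK : Z0 ≤ C.K := by
    rcases hsimple.eq_bot_or_eq_top_of_normal ((Z0.map C.four).subgroupOf (OmI lineHom)) inferInstance
      with h | h
    · intro c hc
      refine MonoidHom.mem_ker.2 (eq_one_of_commute lineHom lineHom_ker ?_ fun y hy => ?_)
      · rw [← hrange]; exact ⟨c, rfl⟩
      · have hx : C.four c ∈ lineHom.range := hrange ▸ ⟨c, rfl⟩
        have h1 : C.four c * y * (C.four c)⁻¹ * y⁻¹ ∈ OmI lineHom :=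
          mul_mem (hOn _ hx y hy) (inv_mem hy)
        have h2 : C.four c * y * (C.four c)⁻¹ * y⁻¹ ∈ Z0.map C.four := by
          rw [mul_assoc, mul_assoc]
          refine mul_mem ⟨c, hc, rfl⟩ ?_
          rw [← mul_assoc]
          exact hZn y (hle hy) _ (inv_mem ⟨c, hc, rfl⟩)
        have h3 : (⟨_, h1⟩ : OmI lineHom) ∈ (Z0.map C.four).subgroupOf (OmI lineHom) := h2
        rw [h, Subgroup.mem_bot] at h3
        exact mul_inv_eq_iff_eq_mul.1 (mul_inv_eq_one.1 (congrArg Subtype.val h3))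
    · exfalso
      obtain ⟨X, hXr, hX⟩ := List.any_eq_true.1 m_moves
      have hm7 : ∀ s ∈ mWord, s < 7 := by decide +kernel
      have hq := C.q_facts hG (t := 0) (by norm_num)
      let m : C.H := ⟨(mWord.map C.x).prod, C.word_mem hm7⟩
      have hm : C.four m ∈ OmI lineHom := by
        refine ⟨([lab (gIdx.getD 0 0 / 4), lab (gIdx.getD 3 0 / 4)].map (refl Q6)).prod,
          prod_mem_commutator ?_ ⟨1, rfl⟩, ?_⟩
        · intro v hv
          simp only [List.mem_cons, List.not_mem_nil, or_false] at hv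
          rcases hv with rfl | rfl <;> exact lab_q6 (by decide +kernel)
        · have e : m = ⟨C.x 0, C.x_mem (by norm_num)⟩ * ⟨C.x 3, C.x_mem (by norm_num)⟩ :=
            Subtype.ext (by simp [m, mWord])
          rw [e, map_mul, C.four_x (by norm_num), C.four_x (by norm_num)]
          simp
      have hin : (⟨_, hm⟩ : OmI lineHom) ∈ (Z0.map C.four).subgroupOf (OmI lineHom) := by
        rw [h]; trivial
      obtain ⟨c, hc, hcm⟩ := hin
      set k := c⁻¹ * m with hk
      have hkK : k ∈ C.K := MonoidHom.mem_ker.2 (by rw [hk, map_mul, map_inv]; exact inv_mul_eq_one.2 hcm)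
      have hqT : k * C.q hG 0 * k⁻¹ ∈ C.Tr := (C.Tr_normal).conj_mem _ (C.q_Tr hG 0) k
      have e : m * C.q hG 0 * m⁻¹ = k * C.q hG 0 * k⁻¹ := by
        have hcomm := Subgroup.mem_centralizer_iff.1 hc _ hqT
        calc m * C.q hG 0 * m⁻¹ = c * (k * C.q hG 0 * k⁻¹) * c⁻¹ := by rw [hk]; group
          _ = _ := by rw [← hcomm, mul_inv_cancel_right]
      simp only [Bool.and_eq_true, Bool.not_eq_true', decide_eq_true_eq, decide_eq_false_iff_not] at hX
      obtain ⟨hfix, hmove⟩ := hX
      have hX126 : X < 126 := List.mem_range.1 hXr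
      let Y : Fin 126 := ⟨X, hX126⟩
      have hYfix : ∀ n, C.perm (C.q hG 0) (ptI Y n) = ptI Y n := by
        obtain ⟨j, hj⟩ := C.q_Tr hG 0 Y
        have h0 : C.perm (C.q hG 0) (ptI Y 0) = ptI Y 0 := Fin.ext ((C.q_perm hG 0 _).trans hfix)
        have : ptI Y (x4 0 j) = ptI Y 0 := (hj 0).symm.trans h0
        have hj0 : j = 0 := ((x4_facts 0 j 0).2.1).symm.trans (ptI_inj Y this)
        intro n
        have := hj n
        rw [hj0, (x4_facts n 0 0).1] at this
        exact this
      have hkY : blockI (C.perm k⁻¹ (ptI Y 0)) = Y := by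
        rw [← C.blockFun_block, ptI_block]
        exact Equiv.ext_iff.1 (MonoidHom.mem_ker.1 (inv_mem hkK)) Y
      have h1 : C.perm (k * C.q hG 0 * k⁻¹) (ptI Y 0) = ptI Y 0 := by
        rw [C.perm_mul, C.perm_mul]
        have e' : ∀ p, blockI p = Y → ptI Y (posI p) = p := fun p hp => hp ▸ ptI_pos p
        have hh := hYfix (posI (C.perm k⁻¹ (ptI Y 0)))
        rw [e' _ hkY] at hh
        rw [hh, ← C.perm_mul, mul_inv_cancel, C.perm_one]
      have hw7 : ∀ s ∈ mWord ++ qW 0 ++ mWord.reverse, s < 7 := by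
        intro s hs
        simp only [List.mem_append, List.mem_reverse] at hs
        rcases hs with (hs | hs) | hs
        exacts [hm7 s hs, hq.2.2.2.2.1 s hs, hm7 s hs]
      have h2 := C.perm_word (g := m * C.q hG 0 * m⁻¹) hw7 (by
        rw [List.map_append, List.map_append, List.prod_append, List.prod_append, ← C.word_inv hG hm7,
          ← hq.2.2.2.2.2]
        rfl) (ptI Y 0)
      rw [e, h1] at h2
      exact hmove h2.symm
  intro g hg
  by_contra hgT
  let S : Subgroup C.H := (Subgroup.centralizer ({C.rho (C.q hG 0)} : Set _)).comap C.rho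
  have hT : C.Tr ≤ S := fun t ht =>
    Subgroup.mem_centralizer_singleton_iff.2 (isT_comm ht (C.q_Tr hG 0))
  have hgS : g ∈ S := Subgroup.mem_centralizer_singleton_iff.2 (by
    rw [← map_mul, ← map_mul, Subgroup.mem_centralizer_iff.1 hg _ (C.q_Tr hG 0)])
  have hw := Subgroup.mem_centralizer_singleton_iff.1 (C.K_le E hT hgS (inK hg) hgT C.w_K)
  obtain ⟨i, hi⟩ := qW_zero_comm
  refine hi ?_
  have h := congrArg Fin.val (Equiv.ext_iff.1 hw i)
  change (C.perm C.w (C.perm (C.q hG 0) i) : ℕ) = (C.perm (C.q hG 0) (C.perm C.w i) : ℕ) at h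
  rw [C.w_perm, C.q_perm, C.q_perm, C.w_perm] at h
  rw [runW_append, runW_append]
  exact h

end Cert

end CfsgLib.ThreeTransp.TypeTwentyFour.FourCentre
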