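import Cfsg.Agent.Lib.Classical.OrthPOmega
import Cfsg.Agent.Lib.Orth.Standard
import Cfsg.Agent.S0280
import Cfsg.Agent.S0283
import Cfsg.Agent.S0303

/-!
# The six-dimensional orthogonal space of minus type over the field with three elements, projectively

The products of two reflections of norm one generate the commutator subgroup, whose image modulo
the signs is the unitary group in dimension four over the field with nine elements; it has index at
least four and no centralizer.
-/

set_option autoImplicit false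
set_option maxRecDepth 20000

namespace CfsgLib.ThreeTransp.TypeTwentyFour.FourCentre

open CfsgLib.Orth CfsgLib.Classical QuadraticMap

/-- The index set of the space. -/
abbrev I6 : Type := (Fin 2 ⊕ Fin 2) ⊕ Fin 2

/-- The space. -/
abbrev W6 : Type := I6 → ZMod 3

/-- The quadratic form of minus type. -/
noncomputable def Q6 : QuadraticForm (ZMod 3) W6 := minusForm (ZMod 3) 2 0 1

/-- The form in coordinates. -/
def q6 (v : W6) : ZMod 3 :=
  v (.inl (.inl 0)) * v (.inl (.inr 0)) + v (.inl (.inl 1)) * v (.inl (.inr 1)) + v (.inr 0) * v (.inr 0) +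
    v (.inr 1) * v (.inr 1)

/-- The polar form in coordinates. -/
def pol6 (u v : W6) : ZMod 3 :=
  u (.inl (.inl 0)) * v (.inl (.inr 0)) + u (.inl (.inr 0)) * v (.inl (.inl 0)) +
    (u (.inl (.inl 1)) * v (.inl (.inr 1)) + u (.inl (.inr 1)) * v (.inl (.inl 1))) +
    (2 * (u (.inr 0) * v (.inr 0)) + 2 * (u (.inr 1) * v (.inr 1)))

theorem Q6_apply (v : W6) : Q6 v = q6 v := by
  rw [Q6, ← minusForm_apply]
  simp [Cfsg.quadFormMinus, q6, Fin.sum_univ_two, pow_two]
  ring

theorem polar_Q6 (u v : W6) : polar Q6 u v = pol6 u v := by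
  rw [Q6, minusForm_polar]
  simp [pol6, Fin.sum_univ_two]
  ring

theorem aniso : ∀ z₁ z₂ : ZMod 3, z₁ ^ 2 + 0 * z₁ * z₂ + 1 * z₂ ^ 2 = 0 → z₁ = 0 ∧ z₂ = 0 := by decide

theorem Q6_nondeg : (QuadraticMap.polarBilin Q6).Nondegenerate := minusForm_nondeg 2 0 1 aniso

theorem two_ne : (2 : ZMod 3) ≠ 0 := by decide

/-- A reflection, computed. -/
def reflA (v w : W6) : W6 := fun l => w l - (q6 v * pol6 v w) * v l

theorem refl_eq (v w : W6) : (refl Q6 v).1 w = reflA v w := by
  rw [refl_apply, Q6_apply, polar_Q6]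
  funext l
  rw [Pi.sub_apply, Pi.smul_apply, smul_eq_mul, reflA,
    (by decide +kernel : ∀ t : ZMod 3, t⁻¹ = t) (q6 v)]

/-- Negation. -/
noncomputable def negO : orthGroup Q6 := negEl Q6

theorem negO_apply (v : W6) : negO.1 v = -v := by simp [negO, negEl]

/-- Two orthogonal hyperbolic pairs. -/
noncomputable def hyp : HypPairs Q6 := hypPairs_minus 2 le_rfl 0 1

theorem negO_ne : negO ≠ 1 := negEl_ne_one two_ne

/-! ### Reflections of norm one -/

/-- The subgroup generated by the reflections of norm one. -/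
noncomputable def K1 : Subgroup (orthGroup Q6) := Subgroup.closure (refl Q6 '' {v | q6 v = 1})

theorem exists_list {x : orthGroup Q6} (hx : x ∈ K1) :
    ∃ L : List W6, (∀ v ∈ L, q6 v = 1) ∧ (L.map (refl Q6)).prod = x := by
  induction hx using Subgroup.closure_induction with
  | mem x hx =>
    obtain ⟨v, hv, rfl⟩ := hx
    exact ⟨[v], by simpa using hv, by simp⟩
  | one => exact ⟨[], by simp, rfl⟩
  | mul x y _ _ hx hy =>
    obtain ⟨L, hL, rfl⟩ := hx
    obtain ⟨M, hM, rfl⟩ := hy
    refine ⟨L ++ M, fun v hv => ?_, by simp⟩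
    rcases List.mem_append.1 hv with h | h
    exacts [hL v h, hM v h]
  | inv x _ hx =>
    obtain ⟨L, hL, rfl⟩ := hx
    refine ⟨L.reverse, fun v hv => hL v (List.mem_reverse.1 hv), ?_⟩
    rw [List.prod_inv_reverse, List.map_reverse, List.map_map]
    congr 2

instance K1_normal : K1.Normal := by
  refine ⟨fun x hx g => ?_⟩
  induction hx using Subgroup.closure_induction with
  | mem x hx =>
    obtain ⟨v, hv, rfl⟩ := hx
    rw [conj_refl]
    refine Subgroup.subset_closure ⟨_, ?_, rfl⟩
    show q6 (g.1 v) = 1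
    rw [← Q6_apply, apply_quad, Q6_apply]
    exact hv
  | one => rw [mul_one, mul_inv_cancel]; exact one_mem _
  | mul x y _ _ hx hy => rw [conj_mul.symm]; exact mul_mem hx hy
  | inv x _ hx => rw [← conj_inv]; exact inv_mem hx

theorem orth_pair {u u' : W6} (hu : q6 u = 2) (hu' : q6 u' = 2) (h : pol6 u u' = 0) :
    refl Q6 u * refl Q6 u' ∈ K1 := by
  have hu0 : Q6 u = 2 := (Q6_apply u).trans hu
  have hu0' : Q6 u' = 2 := (Q6_apply u').trans hu'
  have h0 : polar Q6 u u' = 0 := (polar_Q6 u u').trans h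
  have h0' : polar Q6 u' u = 0 := by rw [polar_comm]; exact h0
  have ha : Q6 (u + u') = 1 := by rw [quad_add', hu0, hu0', h0]; decide
  have hc : Q6 (u - u') = 1 := by
    rw [sub_eq_add_neg, quad_add', QuadraticMap.map_neg, polar_neg_right, hu0, hu0', h0]; decide
  have he : refl Q6 (u + u') * refl Q6 (u - u') = refl Q6 u * refl Q6 u' := by
    refine Subtype.ext (LinearEquiv.ext fun w => ?_)
    show (refl Q6 (u + u')).1 ((refl Q6 (u - u')).1 w) = (refl Q6 u).1 ((refl Q6 u').1 w)
    simp only [refl_apply, ha, hc, hu0, hu0', polar_add_left, polar_sub_left, polar_sub_right,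
      polar_smul_r', polar_add_right, polar_self', h0, h0',
      show ((2 : ZMod 3)⁻¹) = 2 by decide +kernel, inv_one, one_mul]
    funext l
    simp only [Pi.sub_apply, Pi.smul_apply, Pi.add_apply, smul_eq_mul]
    generalize polar Q6 u w = x, polar Q6 u' w = y, w l = z, u l = s, u' l = t
    decide +kernel +revert
  rw [← he]
  exact mul_mem (Subgroup.subset_closure ⟨_, (Q6_apply _).symm.trans ha, rfl⟩)
    (Subgroup.subset_closure ⟨_, (Q6_apply _).symm.trans hc, rfl⟩)

/-- A vector of the other norm. -/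
def u0 : W6 := Pi.single (.inr 0) 1 + Pi.single (.inr 1) 1

/-- A vector of norm one. -/
def e0 : W6 := Pi.single (.inr 0) 1

theorem connect : ∀ u : W6, q6 u = 2 → ∃ u' : W6, q6 u' = 2 ∧ pol6 u0 u' = 0 ∧ pol6 u' u = 0 := by
  decide +kernel

theorem commutator_le_K1 : commutator (orthGroup Q6) ≤ K1 := by
  refine Subgroup.Normal.commutator_le_of_self_sup_commutative_eq_top
    (N := K1) (H := Subgroup.zpowers (refl Q6 u0)) ?_ inferInstance
  rw [eq_top_iff, ← reflGroup_eq_top Q6_nondeg (good_of_two_ne two_ne), reflGroup, Subgroup.closure_le]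
  rintro _ ⟨v, rfl⟩
  rcases (show ∀ t : ZMod 3, t = 0 ∨ t = 1 ∨ t = 2 by decide) (q6 v) with e | e | e
  · rw [show refl Q6 v = 1 from Subtype.ext (LinearEquiv.ext fun w => by
      rw [refl_eq]; funext l; simp [reflA, e])]
    exact one_mem _
  · exact Subgroup.mem_sup_left (Subgroup.subset_closure ⟨v, e, rfl⟩)
  · obtain ⟨u', hu', h1, h2⟩ := connect v e
    have hm := mul_mem (orth_pair (by decide +kernel) hu' h1) (orth_pair hu' e h2)
    rw [← mul_assoc, mul_assoc (refl Q6 u0), refl_mul_self, mul_one] at hm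
    rw [show refl Q6 v = refl Q6 u0 * (refl Q6 u0 * refl Q6 v) by rw [← mul_assoc, refl_mul_self, one_mul]]
    exact mul_mem (Subgroup.mem_sup_right (Subgroup.mem_zpowers _)) (Subgroup.mem_sup_left hm)

/-- An even product of reflections of norm one is in the commutator subgroup. -/
theorem prod_mem_commutator {L : List W6} (hL : ∀ v ∈ L, q6 v = 1) (he : Even L.length) :
    (L.map (refl Q6)).prod ∈ commutator (orthGroup Q6) := by
  refine (prod_refl_mem_commutator_iff Q6_nondeg two_ne L fun a ha => ?_).2 ⟨he, ?_⟩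
  · rw [Q6_apply, hL a ha]; decide
  · rw [List.prod_eq_one fun x hx => by
      obtain ⟨a, ha, rfl⟩ := List.mem_map.1 hx
      rw [Q6_apply, hL a ha]]
    exact ⟨1, (mul_one 1).symm⟩

/-- The commutator subgroup consists of even products of reflections of norm one. -/
theorem exists_even_list {x : orthGroup Q6} (hx : x ∈ commutator (orthGroup Q6)) :
    ∃ L : List W6, (∀ v ∈ L, q6 v = 1) ∧ Even L.length ∧ (L.map (refl Q6)).prod = x := by
  obtain ⟨L, hL, rfl⟩ := exists_list (commutator_le_K1 hx)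
  refine ⟨L, hL, ?_, rfl⟩
  have h := ((mem_commutator_odd Q6_nondeg two_ne _).1 hx).1
  rw [det_prod_refl L fun a ha => by rw [Q6_apply, hL a ha]; decide] at h
  rcases Nat.even_or_odd L.length with e | e
  · exact e
  · rw [e.neg_one_pow] at h
    exact absurd h (by decide)

/-- Six mutually orthogonal vectors. -/
def six : List W6 :=
  [Pi.single (.inr 0) 1, Pi.single (.inr 1) 1,
    Pi.single (.inl (.inl 0)) 1 + Pi.single (.inl (.inr 0)) 1,
    Pi.single (.inl (.inl 0)) 1 - Pi.single (.inl (.inr 0)) 1,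
    Pi.single (.inl (.inl 1)) 1 + Pi.single (.inl (.inr 1)) 1,
    Pi.single (.inl (.inl 1)) 1 - Pi.single (.inl (.inr 1)) 1]

theorem six_facts : six.map q6 = [1, 1, 1, 2, 1, 2] ∧
    ∀ w : W6, six.foldr reflA w = fun l => -w l := by
  decide +kernel

theorem negO_mem : negO ∈ commutator (orthGroup Q6) := by
  have e : (six.map (refl Q6)).prod = negO := by
    refine Subtype.ext (LinearEquiv.ext fun w => ?_)
    have key : ∀ L : List W6, ((L.map (refl Q6)).prod).1 w = L.foldr reflA w := by
      intro L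
      induction L with
      | nil => rfl
      | cons a t ih =>
        show (refl Q6 a).1 (((t.map (refl Q6)).prod).1 w) = _
        rw [ih, refl_eq, List.foldr_cons]
    rw [key, six_facts.2, negO_apply]
    rfl
  rw [← e]
  refine (prod_refl_mem_commutator_iff Q6_nondeg two_ne six fun a ha => ?_).2 ⟨⟨3, rfl⟩, ?_⟩
  · have h : q6 a ∈ six.map q6 := List.mem_map_of_mem ha
    rw [six_facts.1] at h
    rw [Q6_apply]
    intro h0
    rw [h0] at h
    revert h
    decide
  · rw [show six.map (fun a => Q6 a) = six.map q6 from List.map_congr_left fun a _ => Q6_apply a,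
      six_facts.1]
    exact ⟨1, by decide⟩

/-- Commuting up to sign with all of the commutator subgroup forces a sign. -/
theorem sign_of_commute {P : Type*} [Group P] (Φ : orthGroup Q6 →* P)
    (hker : ∀ g, Φ g = 1 → g = 1 ∨ g = negO) (c : orthGroup Q6)
    (hc : ∀ x ∈ commutator (orthGroup Q6), Φ c * Φ x = Φ x * Φ c) : c = 1 ∨ c = negO := by
  have hsq : ∀ h : orthGroup Q6, c * ((h * h) * (h * h)) = (h * h) * (h * h) * c := by
    intro h
    have hx := hc (h * h) (sq_mem_commutator Q6_nondeg (good_of_two_ne two_ne) h)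
    have h1 : Φ ((c * (h * h)) * ((h * h) * c)⁻¹) = 1 := by
      rw [map_mul, map_inv, map_mul Φ c, map_mul Φ (h * h) c, hx, mul_inv_cancel]
    have hn : ∀ g : orthGroup Q6, g * negO = negO * g := negEl_comm
    have hn2 : negO * negO = 1 :=
      Subtype.ext (LinearEquiv.ext fun v => neg_neg v)
    generalize h * h = A at h1 ⊢
    rcases hker _ h1 with r | r
    · rw [mul_inv_eq_one] at r
      rw [← mul_assoc, r, mul_assoc, r, ← mul_assoc]
    · rw [mul_inv_eq_iff_eq_mul] at r
      rw [← mul_assoc, r, mul_assoc negO, mul_assoc A, r, ← mul_assoc A negO, hn, mul_assoc negO,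
        ← mul_assoc negO negO, hn2, one_mul, ← mul_assoc]
  obtain ⟨t, ht⟩ := scalar_of_commute Q6_nondeg two_ne hyp.he₀ hyp.hf₀ hyp.he₁ hyp.hf₁ hyp.h00
    hyp.h11 hyp.hee hyp.hef hyp.hfe hyp.hff (c.1 : W6 →ₗ[ZMod 3] W6)
    (fun h v => LinearEquiv.congr_fun (congrArg Subtype.val (hsq h)) v)
  have hne : t ≠ 0 := fun h0 => by
    have := congrFun (c.1.injective ((ht e0).trans (by rw [h0, zero_smul, map_zero]))) (.inr 0)
    simp [e0] at this
  rcases (show ∀ t : ZMod 3, t ≠ 0 → t = 1 ∨ t = -1 by decide) t hne with rfl | rfl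
  · exact Or.inl (Subtype.ext (LinearEquiv.ext fun v => (ht v).trans (one_smul _ v)))
  · exact Or.inr (Subtype.ext (LinearEquiv.ext fun v => (ht v).trans ((neg_one_smul _ v).trans
      (negO_apply v).symm)))

/-- An isometry fixing every line of norm one is a sign. -/
theorem sign_of_lines (g : orthGroup Q6) (h : ∀ v, q6 v = 1 → g.1 v = v ∨ g.1 v = -v) :
    g = 1 ∨ g = negO := by
  have key : ∀ x ∈ K1, g * x = x * g := by
    intro x hx
    induction hx using Subgroup.closure_induction with
    | mem x hx =>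
      obtain ⟨v, hv, rfl⟩ := hx
      refine mul_inv_eq_iff_eq_mul.1 ?_
      rw [conj_refl]
      rcases h v hv with e | e <;> rw [e]
      rw [← neg_one_smul (ZMod 3) v, refl_smul Q6 (by decide)]
    | one => rw [mul_one, one_mul]
    | mul _ _ _ _ e1 e2 => exact Commute.mul_right e1 e2
    | inv _ _ e1 => exact Commute.inv_right e1
  refine sign_of_commute (MonoidHom.id _) (fun g hg => Or.inl hg) g fun x hx => ?_
  exact key x (commutator_le_K1 hx)

/-! ### A faithful projective action -/

variable {P : Type*} [Group P] (Φ : orthGroup Q6 →* P) (hker : ∀ g, Φ g = 1 ↔ g = 1 ∨ g = negO)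

/-- The image of the commutator subgroup. -/
noncomputable def OmI : Subgroup P := (commutator (orthGroup Q6)).map Φ

theorem quad_minus (v : W6) : Cfsg.quadFormMinus 2 (ZMod 3) 0 1 v = Q6 v := minusForm_apply 2 0 1 v

include hker

theorem exists_OmI_equiv (K : Type) [Field K] [Fintype K] (hK : Fintype.card K = 9) :
    Nonempty (OmI Φ ≃* Cfsg.PSU 4 K 3) := by
  obtain ⟨e⟩ := Cfsg.Agent.S0303.result (F := ZMod 3) (K := K) (q := 3) (ZMod.card 3)
    (by rw [hK]; norm_num) (0 : ZMod 3) 1 aniso
  let E := omegaEquiv Q6 quad_minus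
  let f : Cfsg.Omega (ZMod 3) (Cfsg.quadFormMinus 2 (ZMod 3) 0 1) →* P :=
    Φ.comp ((commutator (orthGroup Q6)).subtype.comp E.toMonoidHom)
  have hk : f.ker = Subgroup.center _ := by
    ext x
    rw [MonoidHom.mem_ker, Subgroup.mem_center_iff]
    constructor
    · intro hx y
      refine E.injective (Subtype.ext ?_)
      rw [map_mul, map_mul, Subgroup.coe_mul, Subgroup.coe_mul]
      rcases (hker _).1 hx with r | r
      · rw [show ((E x : commutator (orthGroup Q6)) : orthGroup Q6) = 1 from r, mul_one, one_mul]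
      · rw [show ((E x : commutator (orthGroup Q6)) : orthGroup Q6) = negO from r, negO, negEl_comm]
    · intro hx
      refine (hker _).2 (sign_of_commute Φ (fun g => (hker g).1) _ fun y hy => ?_)
      obtain ⟨y', hy'⟩ := E.surjective ⟨y, hy⟩
      have h1 := congrArg (fun z => Φ ((E z : commutator (orthGroup Q6)) : orthGroup Q6)) (hx y')
      simp only [map_mul, Subgroup.coe_mul, hy'] at h1
      exact h1.symm
  have hr : f.range = OmI Φ := by
    ext x
    constructor
    · rintro ⟨y, rfl⟩
      exact ⟨_, (E y).2, rfl⟩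
    · rintro ⟨y, hy, rfl⟩
      obtain ⟨y', hy'⟩ := E.surjective ⟨y, hy⟩
      exact ⟨y', congrArg (fun z : commutator (orthGroup Q6) => Φ (z : orthGroup Q6)) hy'⟩
  exact ⟨(MulEquiv.subgroupCongr hr).symm.trans ((QuotientGroup.quotientKerEquivRange f).symm.trans
    ((QuotientGroup.quotientMulEquivOfEq hk).trans e))⟩

omit hker in
/-- The field of order nine. -/
abbrev K9 : Type := GaloisField 3 2

theorem card_K9 [Fintype K9] : Fintype.card K9 = 9 := by
  rw [← Nat.card_eq_fintype_card, GaloisField.card 3 2 (by norm_num)]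
  norm_num

theorem card_OmI : Nat.card (OmI Φ) = 3265920 := by
  let : Fintype K9 := Fintype.ofFinite _
  have hK : Fintype.card K9 = 9 := card_K9 Φ hker
  obtain ⟨e⟩ := exists_OmI_equiv Φ hker K9 hK
  rw [Nat.card_congr e.toEquiv]
  have h := Cfsg.Agent.S0280.result (F := K9) (q := 3) (hK.trans (by norm_num)) 4 (by norm_num)
  norm_num [Finset.prod_range_succ, Nat.even_iff] at h
  omega

theorem simple_OmI : IsSimpleGroup (OmI Φ) := by
  let : Fintype K9 := Fintype.ofFinite _
  have hK : Fintype.card K9 = 9 := card_K9 Φ hker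
  obtain ⟨e⟩ := exists_OmI_equiv Φ hker K9 hK
  have := Cfsg.Agent.S0283.result (F := K9) (q := 3) (hK.trans (by norm_num)) 4 (by norm_num)
    (by norm_num)
  exact e.isSimpleGroup

/-- Only the identity of the image commutes with the image of the commutator subgroup. -/
theorem eq_one_of_commute {x : P} (hx : x ∈ Φ.range) (hc : ∀ y ∈ OmI Φ, x * y = y * x) : x = 1 := by
  obtain ⟨c, rfl⟩ := hx
  exact (hker c).2 (sign_of_commute Φ (fun g => (hker g).1) c fun y hy => hc _ ⟨y, hy, rfl⟩)

/-- The image of the isometry group is at least four times as large. -/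
theorem card_range_ge : 4 * 3265920 ≤ Nat.card Φ.range := by
  classical
  have hr1 : q6 e0 = 1 := by decide +kernel
  have hr2 : q6 u0 = 2 := by decide +kernel
  let δ : orthGroup Q6 →* ZMod 3 :=
    { toFun := fun g => LinearMap.det (g.1 : W6 →ₗ[ZMod 3] W6)
      map_one' := LinearMap.det_id
      map_mul' := fun x y => map_mul LinearMap.det (x.1 : W6 →ₗ[ZMod 3] W6) (y.1 : W6 →ₗ[ZMod 3] W6) }
  let χ : orthGroup Q6 →* ℤˣ := levelSign Q6 1
  let rep : Fin 4 → orthGroup Q6 := ![1, refl Q6 e0, refl Q6 u0, refl Q6 e0 * refl Q6 u0]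
  let inv4 : Fin 4 → ZMod 3 × ℤˣ := ![(1, 1), (-1, -1), (-1, 1), (1, -1)]
  have d1 : δ (refl Q6 e0) = -1 := det_refl Q6 (by rw [Q6_apply, hr1]; decide)
  have d2 : δ (refl Q6 u0) = -1 := det_refl Q6 (by rw [Q6_apply, hr2]; decide)
  have c1 : χ (refl Q6 e0) = -1 := by
    show levelSign Q6 1 (refl Q6 e0) = -1
    rw [levelSign_refl Q6 two_ne one_ne_zero (by rw [Q6_apply, hr1]; decide), if_pos]
    rw [Q6_apply, hr1]; exact ⟨1, rfl⟩
  have c2 : χ (refl Q6 u0) = 1 := by
    show levelSign Q6 1 (refl Q6 u0) = 1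
    rw [levelSign_refl Q6 two_ne one_ne_zero (by rw [Q6_apply, hr2]; decide), if_neg]
    rw [Q6_apply, hr2]
    exact (by decide : ¬ IsSquare ((1 : ZMod 3) * 2))
  have hinv : ∀ i, (δ (rep i), χ (rep i)) = inv4 i := by
    intro i
    fin_cases i <;> simp [rep, inv4, d1, d2, c1, c2]
  have hΩ : ∀ a ∈ commutator (orthGroup Q6), δ a = 1 ∧ χ a = 1 := fun a ha =>
    (mem_commutator_odd Q6_nondeg two_ne a).1 ha
  let F : Fin 4 × OmI Φ → Φ.range := fun p =>
    ⟨Φ (rep p.1) * (p.2 : P), mul_mem ⟨_, rfl⟩ (Subgroup.map_le_range Φ _ p.2.2)⟩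
  have hF : Function.Injective F := by
    rintro ⟨i, x⟩ ⟨j, y⟩ h
    have h' : Φ (rep i) * (x : P) = Φ (rep j) * y := congrArg Subtype.val h
    obtain ⟨a, ha, hax⟩ := x.2
    obtain ⟨b, hb, hby⟩ := y.2
    rw [← hax, ← hby, ← map_mul, ← map_mul] at h'
    have h1 : Φ ((rep j * b)⁻¹ * (rep i * a)) = 1 := by rw [map_mul, map_inv, h', inv_mul_cancel]
    have hij : i = j := by
      have hd : ∀ c : orthGroup Q6, c = 1 ∨ c = negO → δ c = 1 ∧ χ c = 1 := by
        rintro c (rfl | rfl)
        exacts [⟨map_one δ, map_one χ⟩, hΩ _ negO_mem]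
      obtain ⟨e1, e2⟩ := hd _ ((hker _).1 h1)
      have hc : rep i * a = rep j * b * ((rep j * b)⁻¹ * (rep i * a)) := by group
      have f1 := congrArg δ hc
      have f2 := congrArg χ hc
      rw [map_mul δ (rep j * b), e1, map_mul, map_mul, (hΩ a ha).1, (hΩ b hb).1] at f1
      rw [map_mul χ (rep j * b), e2, map_mul, map_mul, (hΩ a ha).2, (hΩ b hb).2] at f2
      simp only [mul_one] at f1 f2
      have hi : inv4 i = inv4 j := by rw [← hinv, ← hinv, f1, f2]
      exact (by decide : Function.Injective inv4) hi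
    subst hij
    refine Prod.ext rfl (Subtype.ext ?_)
    have h2 : Φ (rep i) * (x : P) = Φ (rep i) * y := congrArg Subtype.val h
    exact mul_left_cancel h2
  haveI : Finite Φ.range := Set.finite_coe_iff.2 (Set.finite_range Φ)
  have h := Nat.card_le_card_of_injective F hF
  rwa [Nat.card_prod, Nat.card_fin, card_OmI Φ hker] at h

end CfsgLib.ThreeTransp.TypeTwentyFour.FourCentre
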