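import Cfsg.Agent.Lib.ThreeTransp.TypeTwentyFour.FourCentre.Sizes
import Cfsg.Agent.Lib.Solvable.RankTwoUnipotent.Setting
import Cfsg.Agent.Lib.Components.GenFitting
import Cfsg.Agent.Lib.OddOrder.Basic
import Cfsg.Agent.Lib.ThreeTransp.Simplicity

/-!
# The structure of the centralizer in the derived group
-/

universe u

set_option autoImplicit false
set_option linter.unusedSectionVars false

namespace CfsgLib.ThreeTransp.TypeTwentyFour.FourCentre

open CfsgLib.Orth CfsgLib.Sporadic FourProd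

attribute [local irreducible] tb lk9 lab runW qW wWord mWord

namespace Cert

variable {G : Type u} [Group G] [Finite G] {D : Set G} {z : G} {mem : ℕ → G} {o : G}
  (C : Cert D z mem o) (E : Env D)
include C E

/-- The translations modulo signs form an extraspecial group. -/
theorem Tr_extraspecial : Cfsg.IsExtraspecial 2 ↥C.Tr := by
  obtain ⟨-, -, -, hT, hQ⟩ := C.sizes E
  have hG := E.ctx.hG
  have hz1 := C.z_ne_one E
  rw [← hQ] at hT ⊢
  set f := C.bits hG hz1
  have hker : Nat.card f.ker = 2 := by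
    have h := f.ker.card_mul_index
    rw [Subgroup.index_ker, MonoidHom.range_eq_top.2 (C.bits_surjective hG hz1), Subgroup.card_top,
      Nat.card_congr (Multiplicative.toAdd (α := Fin 12 → ZMod 2)), Nat.card_fun, Nat.card_zmod,
      Nat.card_fin, hT] at h
    omega
  let zq : C.Qc hG := ⟨C.zH hG, Subgroup.subset_closure (Or.inl rfl)⟩
  have hzq : ∀ g, g * zq = zq * g := fun g => Subtype.ext (C.zH_central hG g)
  have hz0 : ∀ t, C.bit hG (C.zH hG) t = 0 := fun t => by
    rw [bit, ← C.zH_central hG, mul_inv_cancel_right, if_pos rfl]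
  have hkz : f.ker ≤ Subgroup.center _ := by
    intro g hg
    have hzk : zq ∈ f.ker := MonoidHom.mem_ker.2 (congrArg Multiplicative.ofAdd (funext hz0))
    have hz1' : (⟨zq, hzk⟩ : f.ker) ≠ 1 := fun e =>
      hz1 (congrArg (fun g => (((g : ↥(C.Qc hG)) : C.H) : G)) (congrArg Subtype.val e))
    rcases (Nat.card_eq_two_iff' (1 : f.ker)).1 hker with ⟨y, -, hy⟩
    rw [Subgroup.mem_center_iff]
    intro k
    by_cases e : g = 1
    · simp [e]
    · have h1 := hy ⟨g, hg⟩ fun h => e (congrArg Subtype.val h)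
      have h2 := hy ⟨zq, hzk⟩ hz1'
      rw [show g = zq from congrArg Subtype.val (h1.trans h2.symm)]
      exact hzq k
  refine Solvable.RankTwoUnipotent.isExtraspecial_of_squares (IsPGroup.of_card (n := 13) hT) ?_ ?_ ?_
  · refine le_trans (Subgroup.card_le_of_le ?_) hker.le
    intro g hg
    refine MonoidHom.mem_ker.2 (congrArg Multiplicative.ofAdd (funext fun t => ?_))
    have h := congrArg Subtype.val (Subgroup.mem_center_iff.1 hg
      ⟨C.q hG t, Subgroup.subset_closure (Or.inr ⟨t, rfl⟩)⟩)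
    simp only [Subgroup.coe_mul] at h
    show C.bit hG g t = 0
    rw [bit, ← h, mul_inv_cancel_right, if_pos rfl]
  · intro g
    refine hkz (MonoidHom.mem_ker.2 ?_)
    rw [map_pow]
    refine Multiplicative.toAdd.injective (funext fun t => ?_)
    simp only [toAdd_pow, Pi.smul_apply, toAdd_one, Pi.zero_apply, two_nsmul]
    exact CharTwo.add_self_eq_zero _
  · by_contra! hcomm
    obtain ⟨g, hg⟩ := C.bits_surjective hG hz1 (Multiplicative.ofAdd fun _ => 1)
    have h := congrFun (Multiplicative.ofAdd.injective (hg : Multiplicative.ofAdd _ = _)) 0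
    have e := congrArg Subtype.val (hcomm g ⟨C.q hG 0, Subgroup.subset_closure (Or.inr ⟨0, rfl⟩)⟩)
    simp only [Subgroup.coe_mul] at e
    change C.bit hG g 0 = 1 at h
    rw [bit, e, mul_inv_cancel_right, if_pos rfl] at h
    exact zero_ne_one h

variable (ε : G →* ℤˣ) (hε : ∀ s ∈ D, ε s = -1)
include hε

theorem eps_word {w : List ℕ} (hw : ∀ s ∈ w, s < 7) :
    ε ((w.map C.x).prod) = (-1) ^ w.length := by
  induction w with
  | nil => simp
  | cons s t ih =>
    rw [List.map_cons, List.prod_cons, map_mul, hε _ (C.x_D E.ctx.hG (hw s List.mem_cons_self)),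
      ih fun r hr => hw r (List.mem_cons_of_mem _ hr), List.length_cons, pow_succ']

theorem eps_Tr : C.Tr ≤ (ε.comp C.H.subtype).ker := by
  obtain ⟨-, -, -, -, hQ⟩ := C.sizes E
  have hG := E.ctx.hG
  rw [← hQ, Qc, Subgroup.closure_le]
  have hm : ∀ i, i < 504 → ε (mem i) = -1 := fun i hi => hε _ (C.mem_D hG hi)
  rintro g (rfl | ⟨t, rfl⟩)
  · show ε z = 1
    rw [← C.base_prod, map_mul, map_mul, map_mul, hm 0 (by norm_num), hm 1 (by norm_num),
      hm 2 (by norm_num), hm 3 (by norm_num)]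
    norm_num
  · show ε (mem (qA t) * mem (qB t)) = 1
    obtain ⟨a, b, -⟩ := C.q_facts hG t.2
    rw [map_mul, hm _ a, hm _ b]
    norm_num

theorem eps_K : C.K ≤ (ε.comp C.H.subtype).ker :=
  C.K_le E (C.eps_Tr E ε hε) (g := C.w) (by
    show ε ((wWord.map C.x).prod) = 1
    rw [C.eps_word E ε hε wWord_lt]
    exact Even.neg_one_pow (Nat.even_iff.2 w_letters.2)) C.w_K C.w_not_Tr

/-- What lies over the commutator subgroup is even. -/
theorem eps_OmI : (OmI lineHom).comap C.four ≤ (ε.comp C.H.subtype).ker := by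
  have hG := E.ctx.hG
  intro h hh
  obtain ⟨g, hg, hgh⟩ := hh
  obtain ⟨L, hL, he, rfl⟩ := exists_even_list hg
  have key : ∀ L : List W6, (∀ v ∈ L, q6 v = 1) → ∃ p : C.H,
      C.four p = lineHom (L.map (refl Q6)).prod ∧ ε p = (-1) ^ L.length := by
    intro L hL
    induction L with
    | nil => exact ⟨1, by simp, by simp⟩
    | cons v t ih =>
      obtain ⟨p, hp, hp'⟩ := ih fun u hu => hL u (List.mem_cons_of_mem _ hu)
      obtain ⟨X, hX⟩ := exists_line (hL v List.mem_cons_self)
      refine ⟨C.memH hG (headI X) * p, ?_, ?_⟩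
      · rw [map_mul, List.map_cons, List.prod_cons, map_mul, hp, C.four_mem,
          show blockI (headI X) = X from Fin.ext (headI_div X), refl_line hX]
      · rw [Subgroup.coe_mul, map_mul, hp', List.length_cons, pow_succ']
        exact congrArg (· * _) (hε _ (C.mem_D hG (headI X).2))
  obtain ⟨p, hp, hp'⟩ := key L hL
  have hk : p⁻¹ * h ∈ C.K := MonoidHom.mem_ker.2 (by rw [map_mul, map_inv, hp, hgh, inv_mul_cancel])
  have hp1 : p ∈ (ε.comp C.H.subtype).ker := MonoidHom.mem_ker.2 (hp'.trans he.neg_one_pow)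
  have := mul_mem hp1 (C.eps_K E ε hε hk)
  rwa [mul_inv_cancel_left] at this

theorem card_ker : Nat.card (ε.comp C.H.subtype).ker = 160526499840 := by
  have hs : (ε.comp C.H.subtype).range = ⊤ := MonoidHom.range_eq_top.2 fun x => by
    rcases Int.units_eq_one_or x with rfl | rfl
    · exact ⟨1, map_one _⟩
    · exact ⟨C.memH E.ctx.hG 0, hε _ (C.mem_D E.ctx.hG (by norm_num))⟩
  have h := (ε.comp C.H.subtype).ker.card_mul_index
  rw [Subgroup.index_ker, hs, Subgroup.card_top, Nat.card_eq_fintype_card (α := ℤˣ),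
    Fintype.card_units_int, (C.sizes E).2.1] at h
  omega

/-- The whole statement for the even part of the centralizer. -/
theorem conclusion (C' : Subgroup G)
    (hC' : ∀ g, g ∈ C' ↔ ε g = 1 ∧ g ∈ Subgroup.centralizer ({z} : Set G)) :
    ∃ (Q : Subgroup ↥C') (_ : Q.Normal), Cfsg.generalizedFittingSubgroup ↥C' = Q ∧
      Cfsg.IsExtraspecial 2 ↥Q ∧ Nat.card Q = 2 ^ 13 ∧
      ∃ (N M : Subgroup ↥C') (_ : N.Normal) (_ : M.Normal), Q ≤ N ∧ N ≤ M ∧
        Nat.card N = 3 * Nat.card Q ∧
        (∃ (K : Type) (_ : Field K) (_ : Fintype K), Fintype.card K = 9 ∧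
          Nonempty (↥M ⧸ N.subgroupOf M ≃* Cfsg.PSU 4 K 3)) ∧ M.index = 2 := by
  obtain ⟨hHeq, hHcard, hKcard, hTcard, -⟩ := C.sizes E
  have hle : C' ≤ C.H := fun g hg => hHeq ▸ ((hC' g).1 hg).2
  let f : ↥C' →* C.H := Subgroup.inclusion hle
  have hf : Function.Injective f := Subgroup.inclusion_injective hle
  have hfr : f.range = (ε.comp C.H.subtype).ker := by
    ext g
    rw [MonoidHom.mem_ker]
    constructor
    · rintro ⟨c, rfl⟩
      exact ((hC' c).1 c.2).1
    · intro hg
      exact ⟨⟨g, (hC' g).2 ⟨hg, hHeq ▸ g.2⟩⟩, rfl⟩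
  have hcard : ∀ S : Subgroup C.H, S ≤ (ε.comp C.H.subtype).ker → Nat.card (S.comap f) = Nat.card S := by
    intro S hS
    rw [Nat.card_congr ((Subgroup.equivMapOfInjective _ f hf).toEquiv),
      Subgroup.map_comap_eq_self (hfr.symm ▸ hS)]
  have hC'card : Nat.card C' = 160526499840 := by
    rw [← C.card_ker E ε hε, ← hfr, Nat.card_congr (MonoidHom.ofInjective hf).toEquiv]
  have hKn : C.K.Normal := MonoidHom.normal_ker _
  have hOn : ∀ x ∈ lineHom.range, ∀ y ∈ OmI lineHom, x * y * x⁻¹ ∈ OmI lineHom := by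
    rintro _ ⟨g, rfl⟩ _ ⟨a, ha, rfl⟩
    exact ⟨g * a * g⁻¹, (inferInstance : (commutator (orthGroup Q6)).Normal).conj_mem a ha g,
      by rw [map_mul, map_mul, map_inv]⟩
  have hle' : OmI lineHom ≤ lineHom.range := Subgroup.map_le_range _ _
  have hrange := C.four_range E
  haveI hMn : ((OmI lineHom).comap C.four).Normal :=
    ⟨fun y hy x => by
      rw [Subgroup.mem_comap, map_mul, map_mul, map_inv]
      exact hOn _ (hrange ▸ ⟨x, rfl⟩) _ hy⟩
  set Q := C.Tr.comap f with hQdef
  set N := C.K.comap f with hNdef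
  set M := ((OmI lineHom).comap C.four).comap f with hMdef
  haveI : Q.Normal := C.Tr_normal.comap f
  haveI : N.Normal := hKn.comap f
  haveI : M.Normal := hMn.comap f
  have hQN : Q ≤ N := Subgroup.comap_mono C.Tr_le_ker
  have hQcard : Nat.card Q = 2 ^ 13 := (hcard _ (C.eps_Tr E ε hε)).trans hTcard
  have hNcard : Nat.card N = 24576 := (hcard _ (C.eps_K E ε hε)).trans hKcard
  -- the map onto the image
  let φ : ↥M →* ↥(OmI lineHom) :=
    ((C.four.comp f).comp M.subtype).codRestrict _ fun m => m.2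
  have hφ : Function.Surjective φ := by
    rintro ⟨y, hy⟩
    obtain ⟨h, rfl⟩ : y ∈ C.four.range := hrange.symm ▸ hle' hy
    obtain ⟨c, rfl⟩ : h ∈ f.range := hfr.symm ▸ C.eps_OmI E ε hε hy
    exact ⟨⟨c, hy⟩, rfl⟩
  have hφk : φ.ker = N.subgroupOf M := by
    ext m
    rw [MonoidHom.mem_ker, Subgroup.mem_subgroupOf]
    exact ⟨fun h => congrArg Subtype.val h, fun h => Subtype.ext h⟩
  have hQex : Cfsg.IsExtraspecial 2 ↥Q := by
    have e : ↥Q ≃* ↥C.Tr := (Subgroup.equivMapOfInjective _ f hf).trans (MulEquiv.subgroupCongr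
      (Subgroup.map_comap_eq_self (hfr.symm ▸ C.eps_Tr E ε hε)))
    exact ThreeTransp.Simplicity.isExtraspecial_of_equiv e.symm (C.Tr_extraspecial E)
  have hcent : Subgroup.centralizer (Q : Set ↥C') ≤ Q := by
    intro c hc
    refine C.centralizer_Tr E (Subgroup.mem_centralizer_iff.2 fun t ht => ?_)
    obtain ⟨c', rfl⟩ : t ∈ f.range := hfr.symm ▸ C.eps_Tr E ε hε ht
    rw [← map_mul, ← map_mul, Subgroup.mem_centralizer_iff.1 hc c' ht]
  haveI : Fact (Nat.Prime 2) := ⟨Nat.prime_two⟩
  have hQnil : Group.IsNilpotent ↥Q := (IsPGroup.of_card hQcard).isNilpotent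
  have hQF : Q ≤ Cfsg.fittingSubgroup ↥C' := Solvable.Cores.le_fittingSubgroup hQnil
  have hFN : Cfsg.fittingSubgroup ↥C' ≤ N := by
    set F := Cfsg.fittingSubgroup ↥C'
    haveI hFn : Group.IsNilpotent ↥F := inferInstance
    let I : Subgroup (Equiv.Perm (Fin 126)) := F.map (C.four.comp f)
    haveI hI : Group.IsNilpotent ↥I :=
      Group.nilpotent_of_surjective _ (MonoidHom.subgroupMap_surjective (C.four.comp f) F)
    have hIn : ∀ y ∈ OmI lineHom, ∀ x ∈ I, y * x * y⁻¹ ∈ I := by
      intro y hy x hx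
      obtain ⟨m, hm⟩ := hφ ⟨y, hy⟩
      have hm' : C.four (f m) = y := congrArg Subtype.val hm
      obtain ⟨a, ha, rfl⟩ := hx
      exact ⟨(m : ↥C') * a * (m : ↥C')⁻¹, (inferInstance : F.Normal).conj_mem a ha _,
        by rw [map_mul, map_mul, map_inv, ← hm']; rfl⟩
    haveI : (I.subgroupOf (OmI lineHom)).Normal := ⟨fun y hy x => hIn x x.2 y hy⟩
    have hsimple := simple_OmI lineHom lineHom_ker
    rcases hsimple.eq_bot_or_eq_top_of_normal (I.subgroupOf (OmI lineHom)) inferInstance with h | h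
    · intro a ha
      refine MonoidHom.mem_ker.2 (eq_one_of_commute lineHom lineHom_ker ?_ fun y hy => ?_)
      · rw [← hrange]; exact ⟨f a, rfl⟩
      · have hx : C.four (f a) ∈ lineHom.range := hrange ▸ ⟨f a, rfl⟩
        have ha' : C.four (f a) ∈ I := ⟨a, ha, rfl⟩
        have h1 : C.four (f a) * y * (C.four (f a))⁻¹ * y⁻¹ ∈ OmI lineHom :=
          mul_mem (hOn _ hx y hy) (inv_mem hy)
        have h2 : C.four (f a) * y * (C.four (f a))⁻¹ * y⁻¹ ∈ I := by
          rw [mul_assoc, mul_assoc]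
          refine mul_mem ha' ?_
          rw [← mul_assoc]
          exact hIn y hy _ (inv_mem ha')
        have h3 : (⟨_, h1⟩ : OmI lineHom) ∈ I.subgroupOf (OmI lineHom) := h2
        rw [h, Subgroup.mem_bot] at h3
        exact mul_inv_eq_iff_eq_mul.1 (mul_inv_eq_one.1 (congrArg Subtype.val h3))
    · exfalso
      have hOI : OmI lineHom ≤ I := Subgroup.subgroupOf_eq_top.1 h
      haveI : Group.IsNilpotent ↥(OmI lineHom) :=
        (Group.isNilpotent_congr (Subgroup.subgroupOfEquivOfLe hOI)).1 inferInstance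
      haveI := hsimple
      haveI : Group.IsSolvable ↥(OmI lineHom) := inferInstance
      have hcomm : ∀ a b : ↥(OmI lineHom), a * b = b * a :=
        IsSimpleGroup.comm_iff_isSolvable.2 inferInstance
      let := (CommGroup.mk hcomm : CommGroup ↥(OmI lineHom))
      have hp := IsSimpleGroup.prime_card (α := ↥(OmI lineHom))
      rw [card_OmI lineHom lineHom_ker] at hp
      norm_num at hp
  have hFQ : Cfsg.fittingSubgroup ↥C' ≤ Q := by
    set F := Cfsg.fittingSubgroup ↥C'
    haveI hFn : Group.IsNilpotent ↥F := inferInstance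
    intro a ha
    by_contra haQ
    have hd : Nat.card F ∣ 8192 * 3 := (Subgroup.card_dvd_of_le hFN).trans (dvd_of_eq hNcard)
    set a' := a ^ 8192 with ha'
    have ho3 : orderOf a' ∣ 3 := by
      refine orderOf_dvd_of_pow_eq_one ?_
      rw [ha', ← pow_mul]
      exact orderOf_dvd_iff_pow_eq_one.1 ((Subgroup.orderOf_dvd_natCard F ha).trans hd)
    have hc : a' ∈ Subgroup.centralizer (Q : Set ↥C') := by
      refine Subgroup.mem_centralizer_iff.2 fun t ht => ?_
      have h2 : orderOf t ∣ 2 ^ 13 := hQcard ▸ Subgroup.orderOf_dvd_natCard Q ht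
      have hcop : (orderOf (⟨t, hQF ht⟩ : F)).Coprime (orderOf (⟨a', pow_mem ha _⟩ : F)) := by
        rw [← Subgroup.orderOf_coe (⟨t, hQF ht⟩ : F), ← Subgroup.orderOf_coe (⟨a', pow_mem ha _⟩ : F)]
        have hp : Nat.Coprime (2 ^ 13) 3 := Nat.Coprime.pow_left 13 (by decide +kernel)
        exact Nat.Coprime.coprime_dvd_left h2 (Nat.Coprime.coprime_dvd_right ho3 hp)
      exact congrArg Subtype.val (OddOrder.Basic.commute_of_coprime_orderOf hcop).eq
    have h1 : a ^ 8192 ∈ Q := hcent hc
    have h3 : (QuotientGroup.mk a : ↥C' ⧸ Q) ^ 8192 = 1 := by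
      rw [← QuotientGroup.mk_pow, QuotientGroup.eq_one_iff]
      exact h1
    have ha3 : (a ^ 3) ∈ Q := by
      have hidx : (Q.subgroupOf N).index = 3 := by
        have := (Q.subgroupOf N).card_mul_index
        rw [Nat.card_congr (Subgroup.subgroupOfEquivOfLe hQN).toEquiv, hQcard, hNcard] at this
        omega
      haveI : (Q.subgroupOf N).Normal := inferInstance
      have := Subgroup.pow_index_mem (Q.subgroupOf N) (⟨a, hFN ha⟩ : N)
      rw [hidx] at this
      exact this
    have h3' : (QuotientGroup.mk a : ↥C' ⧸ Q) ^ 3 = 1 := by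
      rw [← QuotientGroup.mk_pow, QuotientGroup.eq_one_iff]
      exact ha3
    have h0 := Nat.dvd_gcd (orderOf_dvd_of_pow_eq_one h3) (orderOf_dvd_of_pow_eq_one h3')
    rw [show Nat.gcd 8192 3 = 1 from rfl, Nat.dvd_one, orderOf_eq_one_iff,
      QuotientGroup.eq_one_iff] at h0
    exact haQ h0
  refine ⟨Q, inferInstance, ?_, hQex, hQcard, N, M, inferInstance, inferInstance, hQN,
    Subgroup.comap_mono fun h hh => ?_, by rw [hNcard, hQcard]; rfl, ?_, ?_⟩
  · exact le_antisymm (Components.generalizedFitting_le_of_centralizer_le Q hFQ hcent)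
      (hQF.trans Components.fittingSubgroup_le_generalizedFittingSubgroup)
  · rw [Subgroup.mem_comap, MonoidHom.mem_ker.1 hh]; exact one_mem _
  · let : Fintype K9 := Fintype.ofFinite _
    have hK : Fintype.card K9 = 9 := card_K9 lineHom lineHom_ker
    obtain ⟨e⟩ := exists_OmI_equiv lineHom lineHom_ker K9 hK
    exact ⟨K9, inferInstance, inferInstance, hK, ⟨(QuotientGroup.quotientMulEquivOfEq hφk.symm).trans
      ((QuotientGroup.quotientKerEquivOfSurjective φ hφ).trans e)⟩⟩
  · have hMcard : Nat.card M = 80263249920 := by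
      have h := φ.ker.card_mul_index
      rw [Subgroup.index_ker, MonoidHom.range_eq_top.2 hφ, Subgroup.card_top,
        card_OmI lineHom lineHom_ker, hφk] at h
      rw [← h, Nat.card_congr (Subgroup.subgroupOfEquivOfLe
        (Subgroup.comap_mono fun x hx => by
          rw [Subgroup.mem_comap, MonoidHom.mem_ker.1 hx]; exact one_mem _)).toEquiv, hNcard]
    have h := M.card_mul_index
    rw [hMcard, hC'card] at h
    omega

end Cert

end CfsgLib.ThreeTransp.TypeTwentyFour.FourCentre
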