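import Cfsg.Agent.Lib.ThreeTransp.TypeTwentyFour.FourCentre.Data
import Cfsg.Agent.Lib.ThreeTransp.TypeTwentyFour.FourCentre.Space

/-!
# Checks on the permutations of the 504 members

The seven act on the 126 fours as reflections in vectors of norm one, the exchange of `a` and `c` as
a reflection of the other norm; twelve pair products translate inside every four with non-degenerate
commutators; one element fixes every four without translating.
-/

set_option autoImplicit false
set_option maxRecDepth 100000

namespace CfsgLib.ThreeTransp.TypeTwentyFour.FourCentre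

/-- An entry of a packed permutation. -/
def lk9 (T i : ℕ) : ℕ := (T >>> (9 * i)) % 512

/-- The permutation of one of the seven. -/
def tb (s i : ℕ) : ℕ := lk9 (gTabs.getD s 0) i

/-- The permutation of a word in the seven. -/
def runW (w : List ℕ) (i : ℕ) : ℕ := w.foldr tb i

/-- The index of an element of the index set. -/
def ix : I6 → ℕ
  | .inl (.inl i) => 2 * i
  | .inl (.inr i) => 2 * i + 1
  | .inr i => 4 + i

/-- The vector of a code. -/
def vecC (c : ℕ) : W6 := fun l => (c / 3 ^ ix l % 3 : ℕ)

/-- The vector of a four. -/
def lab (X : ℕ) : W6 := vecC ((labCode >>> (10 * X)) % 1024)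

/-- The vector of the exchange. -/
def oV : W6 := vecC oVec

/-- Equality of vectors as a boolean. -/
def eqW (u v : W6) : Bool := decide (∀ l, u l = v l)

/-- A permutation is an involution respecting the fours and acting on them as a reflection. -/
def tabOK (T : ℕ) (v : W6) : Bool :=
  (List.range 504).all (fun i =>
      decide (lk9 T i < 504) && decide (lk9 T (lk9 T i) = i) &&
        decide (lk9 T i / 4 = lk9 T (4 * (i / 4)) / 4)) &&
    (List.range 126).all fun X =>
      eqW (lab (lk9 T (4 * X) / 4)) (reflA v (lab X)) ||
        eqW (lab (lk9 T (4 * X) / 4)) (fun l => -reflA v (lab X) l)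

theorem tabs_ok : (List.range 7).all
    (fun s => decide (gIdx.getD s 504 < 504) && tabOK (gTabs.getD s 0) (lab (gIdx.getD s 0 / 4))) = true := by
  decide +kernel

theorem oTab_ok : tabOK oTab oV = true := by decide +kernel

theorem oV_norm : q6 oV = 2 := by decide +kernel

theorem lab_norm : (List.range 126).all (fun X => decide (q6 (lab X) = 1)) = true := by decide +kernel

theorem lab_cover : ∀ v : W6, q6 v = 1 →
    (List.range 126).any (fun X => eqW (lab X) v || eqW (lab X) (fun l => -v l)) = true := by
  decide +kernel

theorem lab_inj : (List.range 126).all (fun X => (List.range X).all fun Y =>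
    !(eqW (lab X) (lab Y) || eqW (lab X) (fun l => -lab Y l))) = true := by decide +kernel

/-- Each row of the tree gives a new member from an earlier one. -/
def growT : List (ℕ × ℕ × ℕ) → ℕ → ℕ
  | [], seen => seen
  | (i, j, s) :: t, seen =>
    if decide (s < 7) && decide (j < 504) && seen.testBit j && decide (tb s j = i) then
      growT t (seen ||| 2 ^ i)
    else 0

theorem tree_ok : growT treeRows 1 = 2 ^ 504 - 1 := by
  decide +kernel

/-- The word of a conjugate in a conjugation. -/
def halfWord (p : List ℕ × ℕ) : List ℕ := p.1 ++ [p.2] ++ p.1.reverse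

/-- The first member of a pair. -/
def qA (t : ℕ) : ℕ := (qPairs.getD t (0, 0)).1

/-- The second member of a pair. -/
def qB (t : ℕ) : ℕ := (qPairs.getD t (0, 0)).2

/-- The word of a pair product. -/
def qW (t : ℕ) : List ℕ :=
  halfWord (qHalves.getD t (([], 0), ([], 0))).1 ++ halfWord (qHalves.getD t (([], 0), ([], 0))).2

/-- The conjugating word and letter give the member. -/
def halfOK (p : List ℕ × ℕ) (a : ℕ) : Bool :=
  p.1.all (fun s => decide (s < 7)) && decide (p.2 < 7) &&
    decide (runW p.1 (gIdx.getD p.2 504) = a)

theorem halves_ok : (List.range 12).all (fun t =>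
    halfOK (qHalves.getD t (([], 0), ([], 0))).1 (qA t) &&
      halfOK (qHalves.getD t (([], 0), ([], 0))).2 (qB t) &&
      decide (qA t < 504) && decide (qB t < 504) && decide (qA t ≠ qB t) &&
      decide (qA t / 4 = qB t / 4)) = true := by
  decide +kernel

/-- A word translates inside every four. -/
def transW (w : List ℕ) : Bool :=
  (List.range 126).all fun X =>
    let k := runW w (4 * X) - 4 * X
    decide (runW w (4 * X) / 4 = X) &&
      [1, 2, 3].all fun m => decide (runW w (4 * X + m) = 4 * X + (m ^^^ k))

theorem q_trans : (List.range 12).all (fun t => transW (qW t)) = true := by decide +kernel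

/-- A pair product is fixed by another. -/
def keeps (s t : ℕ) : Bool :=
  (decide (runW (qW s) (qA t) = qA t) && decide (runW (qW s) (qB t) = qB t)) ||
    (decide (runW (qW s) (qA t) = qB t) && decide (runW (qW s) (qB t) = qA t))

/-- Otherwise it is sent to the complementary pair. -/
def flips (s t : ℕ) : Bool :=
  let a := runW (qW s) (qA t)
  let b := runW (qW s) (qB t)
  decide (a / 4 = qA t / 4) && decide (b / 4 = qA t / 4) && decide (a ≠ b) &&
    decide (a ≠ qA t) && decide (a ≠ qB t) && decide (b ≠ qA t) && decide (b ≠ qB t)

theorem keeps_flips : (List.range 12).all (fun s => (List.range 12).all fun t =>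
    keeps s t || flips s t) = true := by decide +kernel

/-- The commutator bit. -/
def cbit (s t : ℕ) : ZMod 2 := if keeps s t then 0 else 1

theorem dual_ok : (List.range 12).all (fun j => (qDual.getD j []).all (fun s => decide (s < 12)) &&
    (List.range 12).all fun t =>
      decide (((qDual.getD j []).map fun s => cbit s t).sum = if t = j then 1 else 0)) = true := by
  decide +kernel

theorem w_letters : wWord.all (fun s => decide (s < 7)) = true ∧ wWord.length % 2 = 0 := by
  decide +kernel

theorem w_fixes : (List.range 504).all (fun i => decide (runW wWord i / 4 = i / 4)) = true := by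
  decide +kernel

theorem w_not_trans : transW wWord = false ∧ transW (wWord ++ wWord) = false := by decide +kernel

theorem w_not_comm :
    runW (wWord ++ qW 0) 0 ≠ runW (qW 0 ++ wWord) 0 ∨
      (List.range 504).any (fun i => decide (runW (wWord ++ qW 0) i ≠ runW (qW 0 ++ wWord) i)) = true := by
  decide +kernel

theorem gIdx_zero : gIdx.getD 0 504 = 0 := rfl

/-- An element moving the support of the first pair product. -/
def mWord : List ℕ := [0, 3]

theorem m_moves : (List.range 126).any (fun X =>
    decide (runW (qW 0) (4 * X) = 4 * X) &&
      !decide (runW (mWord ++ qW 0 ++ mWord.reverse) (4 * X) = 4 * X)) = true := by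
  decide +kernel

end CfsgLib.ThreeTransp.TypeTwentyFour.FourCentre
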