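import Cfsg.Agent.Lib.ThreeTransp.TypeTwentyFour.FourCentre.Members

/-!
# Translations inside the fours, and twelve pair products with non-degenerate commutators
-/

set_option autoImplicit false
set_option linter.unusedSectionVars false

namespace CfsgLib.ThreeTransp.TypeTwentyFour.FourCentre

open CfsgLib.Orth

attribute [local irreducible] tb lk9 lab

/-- Addition of positions. -/
def x4 (a b : Fin 4) : Fin 4 := ⟨((a : ℕ) ^^^ (b : ℕ)) % 4, Nat.mod_lt _ (by norm_num)⟩

theorem x4_val : ∀ a b : Fin 4, (x4 a b : ℕ) = (a : ℕ) ^^^ (b : ℕ) := by decide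

theorem x4_facts : ∀ m k l : Fin 4,
    x4 m 0 = m ∧ x4 0 k = k ∧ x4 (x4 m k) l = x4 m (x4 k l) ∧ x4 (x4 m k) k = m ∧
      x4 (x4 m k) l = x4 (x4 m l) k := by decide

/-- Every permutation of four positions normalises the translations. -/
theorem x4_conj : ∀ f : Fin 4 → Fin 4, Function.Injective f → ∀ k,
    ∃ k', ∀ m, f (x4 m k) = x4 (f m) k' := by
  decide +kernel

/-- A permutation translating inside every four. -/
def IsT (σ : Equiv.Perm (Fin 504)) : Prop :=
  ∀ X : Fin 126, ∃ k : Fin 4, ∀ m : Fin 4, σ (ptI X m) = ptI X (x4 m k)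

theorem isT_one : IsT 1 := fun X => ⟨0, fun m => by rw [(x4_facts m 0 0).1]; rfl⟩

theorem isT_mul {σ τ : Equiv.Perm (Fin 504)} (h : IsT σ) (h' : IsT τ) : IsT (σ * τ) := fun X => by
  obtain ⟨k, hk⟩ := h X
  obtain ⟨l, hl⟩ := h' X
  exact ⟨x4 l k, fun m => by rw [Equiv.Perm.mul_apply, hl, hk, (x4_facts m l k).2.2.1]⟩

theorem isT_sq {σ : Equiv.Perm (Fin 504)} (h : IsT σ) : σ * σ = 1 := Equiv.ext fun i => by
  obtain ⟨k, hk⟩ := h (blockI i)
  rw [← ptI_pos i, Equiv.Perm.mul_apply, hk, hk, (x4_facts (posI i) k 0).2.2.2.1]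
  rfl

theorem isT_comm {σ τ : Equiv.Perm (Fin 504)} (h : IsT σ) (h' : IsT τ) : σ * τ = τ * σ :=
  Equiv.ext fun i => by
    obtain ⟨k, hk⟩ := h (blockI i)
    obtain ⟨l, hl⟩ := h' (blockI i)
    rw [← ptI_pos i]
    simp only [Equiv.Perm.mul_apply, hk, hl, (x4_facts (posI i) k l).2.2.2.2]

theorem isT_inv {σ : Equiv.Perm (Fin 504)} (h : IsT σ) : IsT σ⁻¹ := by
  rw [inv_eq_of_mul_eq_one_right (isT_sq h)]
  exact h

theorem isT_block {σ : Equiv.Perm (Fin 504)} (h : IsT σ) (i : Fin 504) :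
    blockI (σ i) = blockI i := by
  obtain ⟨k, hk⟩ := h (blockI i)
  conv_lhs => rw [← ptI_pos i, hk, ptI_block]

theorem isT_conj {σ τ : Equiv.Perm (Fin 504)} (hτ : Blk τ) (h : IsT σ) : IsT (τ * σ * τ⁻¹) := by
  intro X
  set Y := blockI (τ⁻¹ (ptI X 0)) with hY
  obtain ⟨k, hk⟩ := h Y
  have hb : ∀ m, blockI (τ (ptI Y m)) = X := by
    intro m
    have h0 := hτ (ptI Y m) (τ⁻¹ (ptI X 0)) (congrArg Fin.val (ptI_block Y m))
    rw [Equiv.Perm.inv_def, Equiv.apply_symm_apply] at h0
    exact (Fin.ext h0 : blockI (τ (ptI Y m)) = blockI (ptI X 0)).trans (ptI_block X 0)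
  let f : Fin 4 → Fin 4 := fun m => posI (τ (ptI Y m))
  have hf : ∀ m, τ (ptI Y m) = ptI X (f m) := fun m => by
    conv_lhs => rw [← ptI_pos (τ (ptI Y m)), hb m]
  have hinj : Function.Injective f := fun a b e => by
    have := hf a
    rw [e, ← hf b] at this
    exact ptI_inj Y (τ.injective this)
  obtain ⟨k', hk'⟩ := x4_conj f hinj k
  refine ⟨k', fun m => ?_⟩
  obtain ⟨n, rfl⟩ := (Finite.injective_iff_surjective.1 hinj) m
  rw [Equiv.Perm.mul_apply, Equiv.Perm.mul_apply, ← hf n, Equiv.Perm.inv_def,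
    Equiv.symm_apply_apply, hk, hf, hk']

theorem isT_of_transW {σ : Equiv.Perm (Fin 504)} {w : List ℕ}
    (hσ : ∀ i : Fin 504, (σ i : ℕ) = runW w i) (h : transW w = true) : IsT σ := by
  intro X
  have h1 := List.all_eq_true.1 h X (List.mem_range.2 X.2)
  simp only [Bool.and_eq_true, decide_eq_true_eq, List.all_eq_true] at h1
  obtain ⟨h2, h3⟩ := h1
  have hk : runW w (4 * X) - 4 * X < 4 := by omega
  refine ⟨⟨runW w (4 * X) - 4 * X, hk⟩, fun m => Fin.ext ?_⟩
  rw [hσ]
  show runW w (4 * X + m) = 4 * X + _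
  rw [x4_val]
  fin_cases m
  · simp only [Nat.zero_xor, Fin.val_zero, Nat.add_zero]
    show runW w (4 * (X : ℕ)) = _
    omega
  all_goals exact h3 _ (by simp)

theorem transW_of_isT {σ : Equiv.Perm (Fin 504)} {w : List ℕ}
    (hσ : ∀ i : Fin 504, (σ i : ℕ) = runW w i) (h : IsT σ) : transW w = true := by
  refine List.all_eq_true.2 fun X hX => ?_
  rw [List.mem_range] at hX
  obtain ⟨k, hk⟩ := h ⟨X, hX⟩
  have e : ∀ m : Fin 4, runW w (4 * X + m) = 4 * X + ((m : ℕ) ^^^ (k : ℕ)) := fun m => by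
    rw [← x4_val, ← show ((ptI ⟨X, hX⟩ (x4 m k) : Fin 504) : ℕ) = 4 * X + (x4 m k : ℕ) from rfl,
      ← hk, hσ]
    rfl
  have e0 : runW w (4 * X) = 4 * X + (k : ℕ) := by simpa using e 0
  simp only [Bool.and_eq_true, decide_eq_true_eq, List.all_eq_true]
  refine ⟨by omega, fun m hm => ?_⟩
  rw [e0, Nat.add_sub_cancel_left]
  simp only [List.mem_cons, List.not_mem_nil, or_false] at hm
  rcases hm with rfl | rfl | rfl
  exacts [e 1, e 2, e 3]

namespace Cert

variable {G : Type*} [Group G] {D : Set G} {z : G} {mem : ℕ → G} {o : G}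

/-- The elements translating inside every four. -/
noncomputable def Tr (C : Cert D z mem o) : Subgroup C.H where
  carrier := {g | IsT (C.rho g)}
  one_mem' := by show IsT (C.rho 1); rw [map_one]; exact isT_one
  mul_mem' := fun {a b} ha hb => by show IsT (C.rho (a * b)); rw [map_mul]; exact isT_mul ha hb
  inv_mem' := fun {a} ha => by show IsT (C.rho a⁻¹); rw [map_inv]; exact isT_inv ha

instance Tr_normal (C : Cert D z mem o) : C.Tr.Normal :=
  ⟨fun a ha g => by
    show IsT (C.rho (g * a * g⁻¹))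
    rw [map_mul, map_mul, map_inv]
    exact isT_conj (C.perm_blk g) ha⟩

theorem Tr_le_ker (C : Cert D z mem o) : C.Tr ≤ C.four.ker := fun g hg =>
  MonoidHom.mem_ker.2 (Equiv.ext fun X => (isT_block hg (headI X)).trans (Fin.ext (headI_div X)))

variable (C : Cert D z mem o) (hG : Cfsg.IsThreeTranspositionGroup D)
include C hG

theorem z_mem : z ∈ C.H :=
  C.base_prod.subst (motive := fun x => x ∈ C.H)
    (mul_mem (mul_mem (mul_mem (C.mem_H hG (by norm_num)) (C.mem_H hG (by norm_num)))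
      (C.mem_H hG (by norm_num))) (C.mem_H hG (by norm_num)))

theorem z_sq : z * z = 1 := by
  have c := C.base_comm
  have s0 := C.mem_sq hG (i := 0) (by norm_num)
  have s1 := C.mem_sq hG (i := 1) (by norm_num)
  have s2 := C.mem_sq hG (i := 2) (by norm_num)
  have s3 := C.mem_sq hG (i := 3) (by norm_num)
  have e3 : Commute (mem 3) (mem 0 * mem 1 * mem 2) :=
    ((c 3 (by norm_num) 0 (by norm_num)).mul_right (c 3 (by norm_num) 1 (by norm_num))).mul_right
      (c 3 (by norm_num) 2 (by norm_num))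
  have e2 : Commute (mem 2) (mem 0 * mem 1) :=
    (c 2 (by norm_num) 0 (by norm_num)).mul_right (c 2 (by norm_num) 1 (by norm_num))
  have e1 : Commute (mem 1) (mem 0) := c 1 (by norm_num) 0 (by norm_num)
  rw [← C.base_prod, e3.mul_mul_mul_comm, s3, mul_one, e2.mul_mul_mul_comm, s2, mul_one,
    e1.mul_mul_mul_comm, s0, s1, one_mul]

/-- The product as an element. -/
def zH : C.H := ⟨z, C.z_mem hG⟩

theorem zH_central (g : C.H) : g * C.zH hG = C.zH hG * g := Subtype.ext (C.commute_z g.2)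

theorem rho_z : C.rho (C.zH hG) = 1 := Equiv.ext fun i => C.perm_eq (by
  show z * mem i * z⁻¹ = mem i
  rw [(C.commute_z (C.mem_H hG i.2)).symm.eq, mul_inv_cancel_right])

theorem zH_Tr : C.zH hG ∈ C.Tr := by
  show IsT _
  rw [C.rho_z hG]
  exact isT_one

/-- One of the twelve pair products. -/
def q (t : Fin 12) : C.H :=
  C.memH hG ⟨qA t, (C.q_facts hG t.2).1⟩ * C.memH hG ⟨qB t, (C.q_facts hG t.2).2.1⟩

theorem q_perm (t : Fin 12) (i : Fin 504) : (C.perm (C.q hG t) i : ℕ) = runW (qW t) i :=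
  C.perm_word (C.q_facts hG t.2).2.2.2.2.1 (C.q_facts hG t.2).2.2.2.2.2 i

theorem q_Tr (t : Fin 12) : C.q hG t ∈ C.Tr :=
  isT_of_transW (C.q_perm hG t) (List.all_eq_true.1 q_trans t (List.mem_range.2 t.2))

theorem q_conj (s t : Fin 12) :
    C.q hG s * C.q hG t * (C.q hG s)⁻¹ =
      (if keeps s t then 1 else C.zH hG) * C.q hG t := by
  obtain ⟨ha, hb, hab, hblk, -, -⟩ := C.q_facts hG t.2
  obtain ⟨-, -, -, -, hw, he⟩ := C.q_facts hG s.2
  have ha' := runW_lt hw ha
  have hb' := runW_lt hw hb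
  let X : Fin 126 := ⟨qA t / 4, by omega⟩
  have inX : ∀ i : ℕ, i / 4 = qA t / 4 → ∃ m : Fin 4, i = ((ptI X m : Fin 504) : ℕ) := fun i hi =>
    ⟨⟨i % 4, by omega⟩, show i = 4 * (qA t / 4) + i % 4 by omega⟩
  obtain ⟨mA, eA⟩ := inX _ rfl
  obtain ⟨mB, eB⟩ := inX _ hblk.symm
  have hbase : Commute (mem (qA t)) (mem (qB t)) := by rw [eA, eB]; exact C.four_commute hG X mA mB
  refine Subtype.ext ?_
  show (mem (qA s) * mem (qB s)) * (mem (qA t) * mem (qB t)) * (mem (qA s) * mem (qB s))⁻¹ =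
    ((if keeps s t then 1 else C.zH hG : C.H) : G) * (mem (qA t) * mem (qB t))
  rw [he, conj_mul.symm, C.conj_word hw ha, C.conj_word hw hb]
  by_cases hk : keeps s t = true
  · rw [if_pos hk, OneMemClass.coe_one, one_mul]
    simp only [keeps, Bool.or_eq_true, Bool.and_eq_true, decide_eq_true_eq] at hk
    rcases hk with ⟨e1, e2⟩ | ⟨e1, e2⟩ <;> rw [e1, e2]
    exact hbase.symm.eq
  · have hf : flips s t = true := by
      have h := List.all_eq_true.1 (List.all_eq_true.1 keeps_flips s (List.mem_range.2 s.2)) t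
        (List.mem_range.2 t.2)
      rcases Bool.or_eq_true_iff.1 h with h | h
      exacts [absurd h hk, h]
    simp only [flips, Bool.and_eq_true, decide_eq_true_eq] at hf
    obtain ⟨⟨⟨⟨⟨⟨f1, f2⟩, f3⟩, f4⟩, f5⟩, f6⟩, f7⟩ := hf
    rw [if_neg hk]
    obtain ⟨mA', eA'⟩ := inX _ f1
    obtain ⟨mB', eB'⟩ := inX _ f2
    rw [eA'] at f3 f4 f5 ⊢
    rw [eB'] at f3 f6 f7 ⊢
    rw [eA] at f4 f6 hab ⊢
    rw [eB] at f5 f7 hab ⊢
    have hne : ∀ {m n : Fin 4}, ((ptI X m : Fin 504) : ℕ) ≠ ptI X n → m ≠ n :=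
      fun h e => h (by rw [e])
    have hnd : [mA, mB, mA', mB'].Nodup := by
      simp [hne hab, (hne f4).symm, (hne f5).symm, (hne f6).symm, (hne f7).symm, hne f3]
    have hp : [mA, mB, mA', mB'].Perm [0, 1, 2, 3] := by
      refine (List.subperm_of_subset hnd fun m _ => ?_).perm_of_length_le le_rfl
      fin_cases m <;> simp
    have hc : (([0, 1, 2, 3] : List (Fin 4)).map fun m => mem (ptI X m)).Pairwise Commute :=
      List.pairwise_of_forall_mem_list fun a ha b hb => by
        obtain ⟨m, -, rfl⟩ := List.mem_map.1 ha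
        obtain ⟨m', -, rfl⟩ := List.mem_map.1 hb
        exact C.four_commute hG X m m'
    have h := prod_perm hc (hp.symm.map fun m => mem (ptI X m))
    simp only [List.map_cons, List.map_nil] at h
    rw [C.four_prod hG X] at h
    simp only [List.prod_cons, List.prod_nil, mul_one] at h
    show _ = z * _
    have hsq : (mem (ptI X mA) * mem (ptI X mB)) * (mem (ptI X mA) * mem (ptI X mB)) = 1 := by
      rw [(C.four_commute hG X mB mA).mul_mul_mul_comm, C.mem_sq hG (ptI X mA).2,
        C.mem_sq hG (ptI X mB).2, one_mul]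
    have hzc : Commute (mem (ptI X mA) * mem (ptI X mB)) z :=
      C.commute_z (mul_mem (C.mem_H hG (ptI X mA).2) (C.mem_H hG (ptI X mB).2))
    rw [← mul_assoc] at h
    calc mem (ptI X mA') * mem (ptI X mB')
        = (mem (ptI X mA) * mem (ptI X mB)) *
            ((mem (ptI X mA) * mem (ptI X mB)) * (mem (ptI X mA') * mem (ptI X mB'))) := by
          rw [← mul_assoc, hsq, one_mul]
      _ = z * (mem (ptI X mA) * mem (ptI X mB)) := by rw [h, hzc.eq]

/-- The group generated by the product and the twelve pair products. -/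
def Qc : Subgroup C.H := Subgroup.closure (insert (C.zH hG) (Set.range (C.q hG)))

theorem Qc_le : C.Qc hG ≤ C.Tr := by
  rw [Qc, Subgroup.closure_le]
  rintro g (rfl | ⟨t, rfl⟩)
  exacts [C.zH_Tr hG, C.q_Tr hG t]

theorem zH_sq : C.zH hG * C.zH hG = 1 := Subtype.ext (C.z_sq hG)

/-- An element moves each pair product at most by the product of four. -/
theorem Qc_conj {g : C.H} (hg : g ∈ C.Qc hG) (t : Fin 12) :
    g * C.q hG t * g⁻¹ = C.q hG t ∨ g * C.q hG t * g⁻¹ = C.zH hG * C.q hG t := by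
  have hz := C.zH_central hG
  induction hg using Subgroup.closure_induction with
  | mem g hg =>
    rcases hg with rfl | ⟨s, rfl⟩
    · exact Or.inl (by rw [← hz, mul_inv_cancel_right])
    · rw [C.q_conj hG s t]
      split_ifs
      exacts [Or.inl (one_mul _), Or.inr rfl]
  | one => exact Or.inl (by rw [one_mul, inv_one, mul_one])
  | mul a b _ _ ha hb =>
    rw [show a * b * C.q hG t * (a * b)⁻¹ = a * (b * C.q hG t * b⁻¹) * a⁻¹ by group]
    rcases hb with hb | hb <;> rw [hb]
    · exact ha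
    · rw [← mul_assoc a, hz, mul_assoc (C.zH hG), mul_assoc (C.zH hG)]
      rcases ha with ha | ha <;> rw [ha]
      exacts [Or.inr rfl, Or.inl (by rw [← mul_assoc, C.zH_sq hG, one_mul])]
  | inv a _ ha =>
    rcases ha with ha | ha
    · refine Or.inl ?_
      conv_lhs => rw [← ha]
      group
    · refine Or.inr ?_
      have e : C.q hG t = C.zH hG * (a⁻¹ * C.q hG t * a) := by
        calc C.q hG t = a⁻¹ * (C.zH hG * C.q hG t) * a := by rw [← ha]; group
          _ = _ := by simp only [← mul_assoc, hz a⁻¹]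
      rw [inv_inv]
      conv_rhs => rw [e, ← mul_assoc, C.zH_sq hG, one_mul]

open _root_.Classical in
/-- The commutator bit with one pair product. -/
noncomputable def bit (g : C.H) (t : Fin 12) : ZMod 2 :=
  if g * C.q hG t * g⁻¹ = C.q hG t then 0 else 1

variable (hz1 : z ≠ 1)
include hz1

theorem zq_ne (t : Fin 12) : C.zH hG * C.q hG t ≠ C.q hG t := fun e =>
  hz1 (congrArg Subtype.val (mul_eq_right.1 e))

theorem bit_mul {a b : C.H} (ha : a ∈ C.Qc hG) (hb : b ∈ C.Qc hG) (t : Fin 12) :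
    C.bit hG (a * b) t = C.bit hG a t + C.bit hG b t := by
  have hz := C.zH_central hG
  have hne := C.zq_ne hG hz1 t
  have e : a * b * C.q hG t * (a * b)⁻¹ = a * (b * C.q hG t * b⁻¹) * a⁻¹ := by group
  have move : ∀ x : C.H, a * (C.zH hG * x) * a⁻¹ = C.zH hG * (a * x * a⁻¹) := fun x => by
    rw [← mul_assoc a, hz a]
    group
  unfold bit
  rw [e]
  rcases C.Qc_conj hG hb t with hb | hb <;> rcases C.Qc_conj hG ha t with ha | ha <;> rw [hb]
  · simp [ha]
  · simp [ha, hne]
  · simp [move, ha, hne]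
  · rw [move, ha, ← mul_assoc, C.zH_sq hG, one_mul, if_pos rfl, if_neg hne]
    decide

/-- The commutator bits. -/
noncomputable def bits : ↥(C.Qc hG) →* Multiplicative (Fin 12 → ZMod 2) :=
  MonoidHom.mk' (fun g => Multiplicative.ofAdd fun t => C.bit hG g t) fun a b => by
    rw [← ofAdd_add]
    congr 1
    funext t
    exact C.bit_mul hG hz1 a.2 b.2 t

theorem bits_surjective : Function.Surjective (C.bits hG hz1) := by
  classical
  have single : ∀ j : Fin 12, Multiplicative.ofAdd (Pi.single j 1) ∈ (C.bits hG hz1).range := by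
    intro j
    have h := List.all_eq_true.1 dual_ok j (List.mem_range.2 j.2)
    simp only [Bool.and_eq_true, List.all_eq_true, decide_eq_true_eq] at h
    obtain ⟨hl, hsum⟩ := h
    let el : ℕ → ↥(C.Qc hG) := fun s =>
      if hs : s < 12 then ⟨C.q hG ⟨s, hs⟩, Subgroup.subset_closure (Or.inr ⟨_, rfl⟩)⟩ else 1
    refine ⟨((qDual.getD j []).map el).prod, ?_⟩
    have hlist : ∀ L : List ℕ, (∀ s ∈ L, s < 12) →
        C.bits hG hz1 (L.map el).prod =
          Multiplicative.ofAdd fun t : Fin 12 => (L.map fun s => cbit s t).sum := by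
      intro L hL
      induction L with
      | nil => rw [List.map_nil, List.prod_nil, map_one]; rfl
      | cons s L ih =>
        have hs := hL s List.mem_cons_self
        rw [List.map_cons, List.prod_cons, map_mul, ih fun r hr => hL r (List.mem_cons_of_mem _ hr)]
        have h1 : C.bits hG hz1 (el s) = Multiplicative.ofAdd fun t : Fin 12 => cbit s t := by
          refine congrArg Multiplicative.ofAdd (funext fun t => ?_)
          simp only [el, dif_pos hs, bit, C.q_conj hG ⟨s, hs⟩ t, cbit]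
          by_cases hk : keeps s t = true
          · simp [hk]
          · simp [hk, C.zq_ne hG hz1 t]
        rw [h1, ← ofAdd_add]
        rfl
    rw [hlist _ hl]
    congr 1
    funext t
    rw [hsum t (List.mem_range.2 t.2), Pi.single_apply]
    simp only [Fin.ext_iff]
  intro v
  have key : ∀ f : Fin 12 → ZMod 2, Multiplicative.ofAdd f ∈ (C.bits hG hz1).range := by
    intro f
    rw [← Finset.univ_sum_single f, ofAdd_sum]
    refine Subgroup.prod_mem _ fun j _ => ?_
    rcases (by decide : ∀ c : ZMod 2, c = 0 ∨ c = 1) (f j) with e | e <;> rw [e]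
    · rw [Pi.single_zero, ofAdd_zero]; exact one_mem _
    · exact single j
  exact key v.toAdd

/-- At least `2 ^ 13` elements. -/
theorem card_Qc [Finite G] : 8192 ≤ Nat.card (C.Qc hG) := by
  have hsurj := C.bits_surjective hG hz1
  rw [← (C.bits hG hz1).ker.card_mul_index, Subgroup.index_ker, MonoidHom.range_eq_top.2 hsurj,
    Subgroup.card_top, Nat.card_congr (Multiplicative.toAdd (α := Fin 12 → ZMod 2)), Nat.card_fun,
    Nat.card_zmod, Nat.card_fin]
  have h2 : 2 ≤ Nat.card (C.bits hG hz1).ker := by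
    haveI : Nontrivial (C.bits hG hz1).ker := by
      refine ⟨⟨⟨⟨C.zH hG, Subgroup.subset_closure (Or.inl rfl)⟩, ?_⟩, 1, fun e => hz1 ?_⟩⟩
      · rw [MonoidHom.mem_ker]
        refine congrArg Multiplicative.ofAdd (funext fun t => ?_)
        show C.bit hG (C.zH hG) t = 0
        rw [bit, ← C.zH_central hG, mul_inv_cancel_right, if_pos rfl]
      · exact congrArg (fun g => (((g : ↥(C.Qc hG)) : C.H) : G)) (congrArg Subtype.val e)
    exact Finite.one_lt_card
  omega

end Cert

end CfsgLib.ThreeTransp.TypeTwentyFour.FourCentre
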