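import Cfsg.Agent.Lib.ThreeTransp.TypeTwentyFour.FourCentre.Structure
import Cfsg.Agent.Lib.ThreeTransp.TypeTwentyFour.FourCentre.Model
import Cfsg.Agent.Lib.ThreeTransp.TypeTwentyFour.FourProd.Instance
import Cfsg.Agent.Lib.ThreeTransp.TypeTwentyFour.Unique.Map

/-!
# The certificate for every product of four in a group of type M(24)
-/

universe u

set_option autoImplicit false

namespace CfsgLib.ThreeTransp.TypeTwentyFour.FourCentre

open CfsgLib.Sporadic FourProd

/-- A certificate moves along an isomorphism respecting the classes. -/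
theorem Cert.map {G H : Type*} [Group G] [Group H] {D : Set G} {D' : Set H} {z : G} {mem : ℕ → G}
    {o : G} (C : Cert D z mem o) (f : G ≃* H) (hD : ∀ a ∈ D, f a ∈ D') :
    Cert D' (f z) (fun i => f (mem i)) (f o) :=
  ⟨hD _ C.mem_zero, fun i hi j hj h => C.inj i hi j hj (f.injective h),
    fun s hs i hi => by rw [← map_inv, ← map_mul, ← map_mul, C.gconj s hs i hi],
    fun s hs => (C.gcomm s hs).map f,
    fun i hi => by rw [← map_inv, ← map_mul, ← map_mul, C.oconj i hi],
    C.ocomm.map f, fun i hi j hj => (C.base_comm i hi j hj).map f,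
    by rw [← map_mul, ← map_mul, ← map_mul, C.base_prod]⟩

theorem exists_cert {G : Type u} [Group G] [Finite G] {D : Set G} (E : Env D) {z : G}
    (hP : IsProd D 4 z) : ∃ mem o, Cert D z mem o := by
  haveI := Fi24Model.finite
  have E₀ := env_of Fi24Model.isThreeTranspositionGroup Fi24Model.isPrimitive Fi24Model.isOfTypeM24
  obtain ⟨e, he⟩ := Unique.exists_equiv E₀.ctx E.ctx
  have hD : ∀ a ∈ Fi24Model.classL, e a ∈ D := fun a ha => he ▸ ⟨a, ha, rfl⟩
  have C₁ := cert_model.map e hD
  obtain ⟨c, hc⟩ := isConj_iff.1 (E.classes 4 (by norm_num) le_rfl _ _ (C₁.z_prod E) hP)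
  have C₂ := C₁.map (MulAut.conj c) fun a ha => E.ctx.hG.2.1 c a ha
  rw [MulAut.conj_apply, hc] at C₂
  exact ⟨_, _, C₂⟩

end CfsgLib.ThreeTransp.TypeTwentyFour.FourCentre
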